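import Cfsg.Agent.Lib.Solv.OddGated.SpecThree.CITCase

/-!
Groups in which no prime divides three distinct element orders, with an element of order twice an odd prime.
-/

set_option autoImplicit false
set_option linter.unusedSectionVars false
set_option linter.style.haveILetI false

namespace Cfsg.Agent.Solv.SpecThree

open Cfsg
open Cfsg.Agent.Solv.CITGroups
open Cfsg.Agent.Lie
open Cfsg.Agent.Small

universe u

section Field

/-- A field with an automorphism of prime order is a power of a smaller field. -/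
theorem exists_card_pow {F : Type} [Field F] [Fintype F] {e : ℕ} (he : e.Prime) {σ : F ≃+* F} (hσe : σ ^ e = 1)
    (hσ : σ ≠ 1) : ∃ k : ℕ, Fintype.card F = k ^ e := by
  classical
  haveI := Fact.mk he
  haveI : Finite (F ≃+* F) := Finite.of_injective (fun σ : F ≃+* F => (σ : F → F)) DFunLike.coe_injective
  letI := Fintype.ofFinite (Subgroup.zpowers σ)
  haveI : FaithfulSMul (Subgroup.zpowers σ) F :=
    ⟨fun {a b} h => Subtype.ext (RingEquiv.ext fun x => h x)⟩
  refine ⟨Nat.card (FixedPoints.subfield (Subgroup.zpowers σ) F), ?_⟩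
  rw [← Nat.card_eq_fintype_card, Module.natCard_eq_pow_finrank (K := FixedPoints.subfield (Subgroup.zpowers σ) F),
    FixedPoints.finrank_eq_card, ← Nat.card_eq_fintype_card, Nat.card_zpowers, orderOf_eq_prime hσe hσ]

end Field

variable {G : Type u} [Group G] [Finite G] {r : ℕ}

section Index

variable {F : Type} [Field F] [Fintype F]

local notation "P2" => Matrix.ProjectiveSpecialLinearGroup (Fin 2) F

/-- Scalars act trivially. -/
theorem conjP_scalar (g : GL (Fin 2) F) (c : F) (hg : g.val = c • (1 : Matrix (Fin 2) (Fin 2) F)) :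
    PSL2.conjP g = 1 := by
  refine MulEquiv.ext fun x => ?_
  obtain ⟨A, rfl⟩ := PSL2.pr_surjective x
  rw [PSL2.conjP_apply, MulAut.one_apply]
  refine congrArg PSL2.pr (Subtype.ext ?_)
  have hcm : g.val * A.1 = A.1 * g.val := by rw [hg, Matrix.smul_mul, Matrix.mul_smul, one_mul, mul_one]
  rw [PSL2.conjSL_val, hcm, mul_assoc, Units.mul_inv, mul_one]

/-- Conjugation with a square determinant is inner. -/
theorem conjP_inner (g : GL (Fin 2) F) (hg : IsSquare g.val.det) : ∃ y : P2, PSL2.conjP g = MulAut.conj y := by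
  obtain ⟨c, hc⟩ := hg
  have hc0 : c ≠ 0 := fun e => Matrix.GeneralLinearGroup.det_ne_zero g (by rw [hc, e, mul_zero])
  have hd : (c⁻¹ • g.val).det = 1 := by
    rw [Matrix.det_smul, Fintype.card_fin, hc]
    field_simp
  let A : Matrix.SpecialLinearGroup (Fin 2) F := ⟨c⁻¹ • g.val, hd⟩
  refine ⟨PSL2.pr A, ?_⟩
  rw [← PSL2.conjP_toGL]
  have h : (Matrix.SpecialLinearGroup.toGL A * g⁻¹).val = c⁻¹ • (1 : Matrix (Fin 2) (Fin 2) F) := by
    show c⁻¹ • g.val * g⁻¹.val = _
    rw [Matrix.smul_mul, Units.mul_inv]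
  have := conjP_scalar _ _ h
  rw [map_mul, map_inv, mul_inv_eq_one] at this
  exact this.symm

/-- An almost simple linear group in this situation is simple. -/
theorem index_one (hr : TwoQ.Hyp G r) {N : Subgroup G} [hN : N.Normal]
    (hcen : Subgroup.centralizer (N : Set G) = ⊥) (h4 : 4 ≤ Fintype.card F) (e : N ≃* P2)
    (hq : (∃ n, Fintype.card F = 2 ^ n) ∨
      ((Fintype.card F % 8 = 3 ∨ Fintype.card F % 8 = 5) ∧ ∃ x : N, orderOf x = 2 * r)) : N = ⊤ := by
  classical
  haveI : Fact (Nat.Prime 2) := ⟨Nat.prime_two⟩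
  by_contra hne
  obtain ⟨p, f, hp, hF⟩ : ∃ p : ℕ, ∃ f : ℕ+, p.Prime ∧ Fintype.card F = p ^ (f : ℕ) := by
    obtain ⟨p, hp⟩ := CharP.exists F
    obtain ⟨n, hn, hc⟩ := FiniteField.card F p
    exact ⟨p, n, hn, hc⟩
  haveI := Fact.mk hp
  haveI : CharP F p := by
    obtain ⟨p', hp'⟩ := CharP.exists F
    obtain ⟨n, hn, hc⟩ := FiniteField.card F p'
    have : p' = p := (Nat.prime_dvd_prime_iff_eq hn hp).1 (hn.dvd_of_dvd_pow (hF ▸ hc ▸ dvd_pow_self p' n.ne_zero))
    exact this ▸ hp'
  let Φ : G →* MulAut P2 := (MulAut.congr e).toMonoidHom.comp (MulAut.conjNormal (H := N))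
  have hinj : Function.Injective Φ := by
    rw [injective_iff_map_eq_one]
    intro g hg
    have h1 : (MulAut.conjNormal g : MulAut N) = 1 := (MulAut.congr e).injective (hg.trans (map_one _).symm)
    have h2 : g ∈ Subgroup.centralizer (N : Set G) := Subgroup.mem_centralizer_iff.2 fun n hn => by
      have h3 : ((MulAut.conjNormal g ⟨n, hn⟩ : N) : G) = n := by rw [h1]; rfl
      rw [MulAut.conjNormal_apply] at h3
      exact (mul_inv_eq_iff_eq_mul.1 h3).symm
    rw [hcen] at h2
    exact Subgroup.mem_bot.1 h2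
  have hΦ : ∀ (g : G) (y : P2), Φ g y = e (MulAut.conjNormal g (e.symm y)) := fun g y => rfl
  have hΦN : ∀ n : N, Φ n = MulAut.conj (e n) := fun n => MulEquiv.ext fun y => by
    rw [hΦ, MulAut.conjNormal_val, MulAut.conj_apply, MulAut.conj_apply, map_mul, map_mul, map_inv,
      MulEquiv.apply_symm_apply]
  have hinner : ∀ b : GL (Fin 2) F, IsSquare b.val.det → ∃ n : N, Φ n = PSL2.conjP b := fun b hb => by
    obtain ⟨y, hy⟩ := conjP_inner b hb
    exact ⟨e.symm y, by rw [hΦN, MulEquiv.apply_symm_apply, hy]⟩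
  -- no conjugation with nonsquare determinant
  have houter : ∀ b : GL (Fin 2) F, PSL2.conjP b ∈ Φ.range → IsSquare b.val.det := by
    intro b hb
    by_contra hns
    rcases hq with ⟨n, hn⟩ | ⟨h8, -⟩
    · exact hns (FiniteField.isSquare_of_char_two
        ((ringChar.eq_iff).2 (FPFTop.charTwo_of_card hn)) _)
    have h2sq : ¬ IsSquare (2 : F) := fun h => by
      rw [FiniteField.isSquare_two_iff] at h
      omega
    have h20 : (2 : F) ≠ 0 := fun h => h2sq ⟨0, by rw [h, mul_zero]⟩
    let a : GL (Fin 2) F := Matrix.GeneralLinearGroup.mkOfDetNeZero !![1, 1; -1, 1]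
      (by rw [Matrix.det_fin_two_of]; ring_nf; exact h20)
    have hda : a.val.det = 2 := by
      show (!![(1 : F), 1; -1, 1]).det = 2
      rw [Matrix.det_fin_two_of]
      ring
    have hb0 : b.val.det ≠ 0 := Matrix.GeneralLinearGroup.det_ne_zero b
    have hsq : IsSquare (a * b).val.det := by
      rw [Units.val_mul, Matrix.det_mul, hda]
      refine (quadraticChar_one_iff_isSquare (mul_ne_zero h20 hb0)).1 ?_
      rw [map_mul, quadraticChar_neg_one_iff_not_isSquare.2 h2sq, quadraticChar_neg_one_iff_not_isSquare.2 hns]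
      norm_num
    obtain ⟨n, hn⟩ := hinner (a * b) hsq
    obtain ⟨g, hg⟩ := hb
    have hga : Φ ((n : G) * g⁻¹) = PSL2.conjP a := by
      rw [map_mul, map_inv, hn, hg, map_mul, mul_inv_cancel_right]
    set x := (n : G) * g⁻¹
    have h2x : ¬ x ^ 2 = 1 := fun h2 => h20 (by
      have h1 : PSL2.conjP (a * a) = 1 := by
        rw [map_mul, ← hga, ← map_mul, ← pow_two, h2, map_one]
      have h0 := congrFun (congrFun (PSL2.scalar_of_conjP_eq_one h1) 0) 1
      simp [a, Matrix.GeneralLinearGroup.mkOfDetNeZero] at h0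
      linear_combination h0)
    have h4x : x ^ 4 = 1 := hinj (by
      rw [map_pow, hga, ← map_pow, map_one]
      refine conjP_scalar _ (-4) ?_
      rw [Units.val_pow_eq_pow_val]
      ext i j
      fin_cases i <;> fin_cases j <;>
        simp [a, Matrix.GeneralLinearGroup.mkOfDetNeZero, pow_succ, Matrix.mul_apply, Fin.sum_univ_two] <;> ring)
    have hxo : orderOf x = 2 ^ 2 := orderOf_eq_prime_pow (p := 2) (n := 1) (by simpa using h2x) (by simpa using h4x)
    have := hr.order_two_pow hxo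
    exact h2x (by rw [pow_two]; exact this)
  -- an outer element of prime order modulo `N`
  have hi1 : N.index ≠ 1 := fun h => hne (Subgroup.index_eq_one.1 h)
  obtain ⟨e', he', hed⟩ := Nat.exists_prime_and_dvd hi1
  haveI := Fact.mk he'
  obtain ⟨q0, hq0⟩ := exists_prime_orderOf_dvd_card' (G := G ⧸ N) e' hed
  obtain ⟨g, rfl⟩ := QuotientGroup.mk'_surjective N q0
  have hgN : g ∉ N := fun h => by
    rw [QuotientGroup.mk'_apply, (QuotientGroup.eq_one_iff g).2 h, orderOf_one] at hq0
    exact he'.one_lt.ne hq0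
  have hgeN : g ^ e' ∈ N := (QuotientGroup.eq_one_iff _).1 (by
    rw [← QuotientGroup.mk'_apply, map_pow, ← hq0, pow_orderOf_eq_one])
  obtain ⟨b, σ, hα⟩ := PSL2.aut_eq hF (Φ g)
  have hpow : ∀ n : ℕ, ∃ B : GL (Fin 2) F, Φ g ^ n = PSL2.conjP B * PSL2.fieldP (σ ^ n) := by
    intro n
    induction n with
    | zero => exact ⟨1, by simp⟩
    | succ n ih =>
      obtain ⟨B, hB⟩ := ih
      refine ⟨B * PSL2.glField (σ ^ n) b, ?_⟩
      rw [pow_succ, hB, hα, mul_assoc, ← mul_assoc (PSL2.fieldP (σ ^ n)), PSL2.fieldP_conjP, map_mul,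
        pow_succ σ n, map_mul PSL2.fieldP]
      simp only [mul_assoc]
  have hσe : σ ^ e' = 1 := by
    obtain ⟨B, hB⟩ := hpow e'
    obtain ⟨A, hA⟩ := PSL2.pr_surjective (e ⟨g ^ e', hgeN⟩)
    have h1 := hΦN ⟨g ^ e', hgeN⟩
    rw [map_pow Φ g e', hB, ← hA, ← PSL2.conjP_toGL] at h1
    exact PSL2.field_unique (g := B) (g' := Matrix.SpecialLinearGroup.toGL A) (σ' := 1)
      (by rw [h1, map_one, mul_one])
  by_cases hσ : σ = 1
  · rw [hσ, map_one, mul_one] at hα
    obtain ⟨n, hn⟩ := hinner b (houter b ⟨g, hα⟩)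
    exact hgN (hinj (hα.trans hn.symm) ▸ n.2)
  obtain ⟨k, hk⟩ := exists_card_pow he' hσe hσ
  have hfield : PSL2.fieldP σ ∈ Φ.range := by
    by_cases hb : IsSquare b.val.det
    · obtain ⟨n, hn⟩ := hinner b hb
      exact ⟨(n : G)⁻¹ * g, by rw [map_mul, map_inv, hn, hα, inv_mul_cancel_left]⟩
    rcases he'.eq_two_or_odd' with rfl | ho
    · rcases hq with ⟨n, hn⟩ | ⟨h8, -⟩
      · exact absurd (FiniteField.isSquare_of_char_two ((ringChar.eq_iff).2 (FPFTop.charTwo_of_card hn)) _) hb
      · exfalso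
        rw [hk, Nat.pow_mod] at h8
        have := Nat.mod_lt k (show 0 < 8 by norm_num)
        interval_cases hk8 : k % 8 <;> norm_num at h8
    · have hdet : IsSquare (b * PSL2.glField σ b).val.det := by
        have hd : (PSL2.glField σ b).val.det = σ b.val.det := ((σ : F →+* F).map_det b.val).symm
        rw [Units.val_mul, Matrix.det_mul, hd]
        have hb0 : b.val.det ≠ 0 := Matrix.GeneralLinearGroup.det_ne_zero b
        have hns' : ¬ IsSquare (σ b.val.det) := fun ⟨c, hc⟩ => hb ⟨σ.symm c, by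
          rw [← map_mul, ← hc, RingEquiv.symm_apply_apply]⟩
        refine (quadraticChar_one_iff_isSquare (mul_ne_zero hb0 fun h => hns' ⟨0, by rw [h, mul_zero]⟩)).1 ?_
        rw [map_mul, quadraticChar_neg_one_iff_not_isSquare.2 hb, quadraticChar_neg_one_iff_not_isSquare.2 hns']
        norm_num
      obtain ⟨n, hn⟩ := hinner _ hdet
      have h2 : PSL2.fieldP (σ ^ 2) ∈ Φ.range := ⟨(n : G)⁻¹ * (g * g), by
        rw [map_mul, map_inv, hn, map_mul Φ g g, hα, inv_mul_eq_iff_eq_mul]
        rw [pow_two, map_mul PSL2.fieldP, map_mul PSL2.conjP]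
        rw [show PSL2.conjP b * PSL2.fieldP σ * (PSL2.conjP b * PSL2.fieldP σ) =
          PSL2.conjP b * (PSL2.fieldP σ * PSL2.conjP b) * PSL2.fieldP σ by group, PSL2.fieldP_conjP]
        group⟩
      obtain ⟨j, hj⟩ := ho
      have : σ = (σ ^ 2) ^ (j + 1) := by
        rw [← pow_mul, show 2 * (j + 1) = e' + 1 by omega, pow_succ, hσe, one_mul]
      rw [this, map_pow]
      exact pow_mem h2 _
  obtain ⟨g₀, hg₀⟩ := hfield
  have hg₀o : orderOf g₀ = e' := by
    refine orderOf_eq_prime (hinj ?_) fun h1 => hσ ?_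
    · rw [map_pow, hg₀, ← map_pow, hσe, map_one, map_one]
    · rw [h1, map_one] at hg₀
      exact (PSL2.field_eq_one (h := 1) (by rw [map_one, hg₀])).1
  -- elements with entries in the prime field
  have hfix : ∀ A : Matrix.SpecialLinearGroup (Fin 2) F, PSL2.fieldSL σ A = A →
      Commute g₀ ((e.symm (PSL2.pr A) : N) : G) := by
    intro A hA
    have h1 : Φ g₀ (PSL2.pr A) = PSL2.pr A := by rw [hg₀, PSL2.fieldP_apply, hA]
    rw [hΦ] at h1
    have h2 := congrArg e.symm h1
    rw [MulEquiv.symm_apply_apply] at h2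
    exact mul_inv_eq_iff_eq_mul.1 ((MulAut.conjNormal_apply g₀ _).symm.trans (congrArg Subtype.val h2))
  have hentry : ∀ A : Matrix.SpecialLinearGroup (Fin 2) F, (∀ i j, σ (A.1 i j) = A.1 i j) → PSL2.fieldSL σ A = A :=
    fun A hA => Subtype.ext (Matrix.ext fun i j => (PSL2.fieldSL_apply σ A i j).trans (hA i j))
  have hord : ∀ y : P2, orderOf ((e.symm y : N) : G) = orderOf y := fun y => by
    rw [Subgroup.orderOf_coe]
    exact orderOf_injective e.symm.toMonoidHom e.symm.injective y
  have hp1 : (p : F) = 0 := CharP.cast_eq_zero F p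
  -- an element of order three
  let A3 : Matrix.SpecialLinearGroup (Fin 2) F := PSL2.uS 1 * PSL2.wS
  have hA3 : orderOf (PSL2.pr A3) = 3 := by
    haveI : Fact (Nat.Prime 3) := ⟨Nat.prime_three⟩
    refine orderOf_eq_prime ?_ fun h1 => ?_
    · rw [← map_pow, show A3 ^ 3 = 1 by
        apply Subtype.ext
        simp [A3, pow_succ, Matrix.mul_fin_two, Matrix.one_fin_two], map_one]
    · rw [← map_one (PSL2.pr (F := F))] at h1
      obtain ⟨ε, -, hm⟩ := (PSL2.pr_eq_iff _ _).1 h1
      have h01 := congrFun (congrFun hm 0) 1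
      simp [A3, Matrix.mul_fin_two] at h01
  have hA2 : orderOf (PSL2.pr (PSL2.wS (F := F))) = 2 := by
    refine orderOf_eq_prime ?_ fun h1 => ?_
    · rw [← map_pow, ← map_one (PSL2.pr (F := F)), PSL2.pr_eq_iff]
      refine ⟨-1, by ring, ?_⟩
      simp [pow_two, Matrix.one_fin_two]
    · rw [← map_one (PSL2.pr (F := F))] at h1
      obtain ⟨ε, -, hm⟩ := (PSL2.pr_eq_iff _ _).1 h1
      have h01 := congrFun (congrFun hm 0) 1
      simp at h01
  have hc3 : Commute g₀ ((e.symm (PSL2.pr A3) : N) : G) := hfix _ (hentry _ fun i j => by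
    fin_cases i <;> fin_cases j <;> simp [A3, Matrix.mul_fin_two])
  have hc2 : Commute g₀ ((e.symm (PSL2.pr (PSL2.wS (F := F))) : N) : G) := hfix _ (hentry _ fun i j => by
    fin_cases i <;> fin_cases j <;> simp)
  have her : e' = 2 ∨ e' = r := by
    by_contra hc
    push Not at hc
    exact hr.no_commute (Or.inl ((hord _).trans hA2)) he' hc.1 hc.2 hg₀o hc2.symm
  have hr3 : r = 3 := by
    by_contra h3
    refine hr.no_commute (x := g₀) ?_ Nat.prime_three (by norm_num) (Ne.symm h3) ((hord _).trans hA3) hc3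
    rwa [hg₀o]
  subst hr3
  rcases her with rfl | rfl
  · -- a field automorphism of order two
    rcases hq with ⟨n, hn⟩ | ⟨h8, -⟩
    · have hU := PSL2.isPGroup_U (F := F) (p := 2) (f := n) hn
      set UN : Subgroup G := (PSL2.U.map e.symm.toMonoidHom).map N.subtype with hUN
      have hUN2 : IsPGroup 2 UN := (hU.map _).map _
      have hnorm : Subgroup.zpowers g₀ ≤ Subgroup.normalizer (UN : Set G) := by
        rw [Subgroup.zpowers_le]
        refine TwoQ.mem_normalizer_of_forall ?_
        rintro _ ⟨_, ⟨y, hy, rfl⟩, rfl⟩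
        obtain ⟨x, rfl⟩ := (PSL2.mem_U y).1 hy
        refine ⟨e.symm (PSL2.pr (PSL2.uS (σ x))), ⟨_, PSL2.uS_mem _, rfl⟩, ?_⟩
        have h1 := hΦ g₀ (PSL2.pr (PSL2.uS x))
        rw [hg₀, PSL2.fieldP_uS] at h1
        rw [h1, MulEquiv.symm_apply_apply]
        exact MulAut.conjNormal_apply g₀ _
      have hP : IsPGroup 2 (UN ⊔ Subgroup.zpowers g₀ : Subgroup G) := IsPGroup.to_sup_of_normal_left' hUN2
        (IsPGroup.of_card (n := 1) (by rw [Nat.card_zpowers, hg₀o, pow_one])) hnorm
      refine hσ (RingEquiv.ext fun x => ?_)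
      have hcm : Commute g₀ ((e.symm (PSL2.pr (PSL2.uS x)) : N) : G) :=
        hr.two_comm hP (Subgroup.mem_sup_right (Subgroup.mem_zpowers g₀))
          (Subgroup.mem_sup_left ⟨_, ⟨_, PSL2.uS_mem x, rfl⟩, rfl⟩)
      refine PSL2.pr_uS_inj (F := F) ?_
      have h1 := hΦ g₀ (PSL2.pr (PSL2.uS x))
      rw [hg₀, PSL2.fieldP_uS] at h1
      rw [h1]
      refine (congrArg e (Subtype.ext ?_)).trans (e.apply_symm_apply _)
      rw [MulAut.conjNormal_apply]
      exact mul_inv_eq_iff_eq_mul.2 hcm.eq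
    · rw [hk, Nat.pow_mod] at h8
      have := Nat.mod_lt k (show 0 < 8 by norm_num)
      interval_cases hk8 : k % 8 <;> norm_num at h8
  · -- a field automorphism of order three
    rcases hq with ⟨n, hn⟩ | ⟨h8, x, hx⟩
    · have hn0 : 0 < n := by
        rcases n with _ | n
        · rw [pow_zero] at hn; omega
        · exact n.succ_pos
      have hk2 : k % 2 = 0 := by
        have : 2 ∣ k ^ 3 := hk ▸ hn ▸ dvd_pow_self 2 hn0.ne'
        exact Nat.mod_eq_zero_of_dvd (Nat.prime_two.dvd_of_dvd_pow this)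
      have hk3 : k % 3 ≠ 0 := fun h => by
        have h3 : 3 ∣ 2 ^ n := hn ▸ hk ▸ dvd_pow (Nat.dvd_of_mod_eq_zero h) (by norm_num)
        have := (Nat.prime_dvd_prime_iff_eq Nat.prime_three Nat.prime_two).1 (Nat.prime_three.dvd_of_dvd_pow h3)
        omega
      have h9 : 9 ∣ Fintype.card F - 1 ∨ 9 ∣ Fintype.card F + 1 := by
        have hk9 : Fintype.card F % 9 = 1 ∨ Fintype.card F % 9 = 8 := by
          rw [hk, Nat.pow_mod]
          have := Nat.mod_lt k (show 0 < 9 by norm_num)
          have hk3' : k % 9 % 3 ≠ 0 := by rwa [Nat.mod_mod_of_dvd k (by norm_num : 3 ∣ 9)]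
          interval_cases hk9' : k % 9 <;> omega
        omega
      obtain ⟨y, hy⟩ : ∃ y : N, orderOf y = 9 := by
        refine psl_exists e h4 ?_
        rwa [gcd_two_pow hn hn0, Nat.div_one, Nat.div_one]
      have h3 := hr.qord (y : G) (by rw [Subgroup.orderOf_coe, hy]; norm_num)
      rw [Subgroup.orderOf_coe, hy] at h3
      omega
    · have hp2 : p ≠ 2 := fun hp2 => by
        have : 2 ∣ Fintype.card F := hF ▸ hp2 ▸ dvd_pow_self p f.ne_zero
        omega
      have hp3 : p = 3 := by
        by_contra hp3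
        have hcp : Commute g₀ ((e.symm (PSL2.pr (PSL2.uS (1 : F))) : N) : G) := hfix _ (hentry _ fun i j => by
          fin_cases i <;> fin_cases j <;> simp)
        exact hr.no_commute (Or.inr hg₀o) hp hp2 hp3
          ((hord _).trans (SL2C.orderOf_pr_uS p one_ne_zero)) hcp
      subst hp3
      refine SL2C.orderOf_ne_two_mul 3 (by norm_num) (e x) ?_
      rw [← hx]
      exact orderOf_injective e.toMonoidHom e.injective x

end Index

/-- An element of order four of the linear group in dimension three over four elements. -/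
theorem exists_four_of_l34 {N : Type u} [Group N] (h : L34 N) : ∃ x : N, orderOf x = 4 := by
  obtain ⟨K, _, _, hK, ⟨e⟩⟩ := h
  haveI := FPFTop.charTwo_of_card (F := K) (n := 2) (by rw [hK]; norm_num)
  have h2 : (2 : K) = 0 := CharTwo.two_eq_zero
  let A : Matrix.SpecialLinearGroup (Fin 3) K := ⟨!![1, 1, 0; 0, 1, 1; 0, 0, 1], by simp [Matrix.det_fin_three]⟩
  refine ⟨e.symm (QuotientGroup.mk' _ A), ?_⟩
  haveI : Fact (Nat.Prime 2) := ⟨Nat.prime_two⟩
  rw [show orderOf (e.symm (QuotientGroup.mk' _ A)) = orderOf (QuotientGroup.mk' _ A) from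
    orderOf_injective e.symm.toMonoidHom e.symm.injective _]
  refine (orderOf_eq_prime_pow (p := 2) (n := 1) ?_ ?_).trans (by norm_num)
  · rw [← map_pow, QuotientGroup.mk'_apply, QuotientGroup.eq_one_iff, Matrix.SpecialLinearGroup.mem_center_iff]
    rintro ⟨c, -, hc⟩
    rw [Matrix.SpecialLinearGroup.coe_pow, pow_one, pow_two] at hc
    have := congrFun (congrFun hc 0) 2
    simp [A, Matrix.mul_apply, Fin.sum_univ_three] at this
  · have hA4 : A ^ 2 ^ (1 + 1) = 1 := by
      apply Subtype.ext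
      rw [Matrix.SpecialLinearGroup.coe_pow, show (2 : ℕ) ^ (1 + 1) = 4 by norm_num, pow_succ, pow_succ, pow_succ,
        pow_one]
      ext i j
      fin_cases i <;> fin_cases j <;> simp [A, Matrix.mul_apply, Fin.sum_univ_three] <;>
        first | linear_combination (2 : K) * h2 | linear_combination h2 | linear_combination (3 : K) * h2
    rw [← map_pow, hA4, map_one]

variable (hodd : ∀ (X : Type u) [Group X] [Finite X], Odd (Nat.card X) → Group.IsSolvable X)
include hodd

/-- The case of an element of order twice an odd prime. -/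
theorem out_of_two_mul (h : Three G) (hns : ¬ Group.IsSolvable G) (hr : TwoQ.Hyp G r) : Out G := by
  classical
  haveI : Fact (Nat.Prime 2) := ⟨Nat.prime_two⟩
  haveI : Nontrivial G := by
    by_contra hn
    rw [not_nontrivial_iff_subsingleton] at hn
    exact hns inferInstance
  obtain ⟨N, hNn, hN1, hmin⟩ := Solv.exists_minimal_normal (G := G)
  haveI := hNn
  obtain ⟨hs, hna, hN2, hcen⟩ := minimal_simple hr hodd hns hN1 hmin
  haveI := hs
  have hno4 : ∀ x : N, orderOf x ≠ 4 := fun x hx => by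
    have hx' : orderOf (x : G) = 2 ^ 2 := by rw [Subgroup.orderOf_coe, hx]; norm_num
    have := orderOf_dvd_of_pow_eq_one (n := 2) (show (x : G) ^ 2 = 1 by rw [pow_two]; exact hr.order_two_pow hx')
    rw [hx'] at this
    norm_num at this
  by_cases hex : ∃ x : N, orderOf x = 2 * r
  · have hrN : TwoQ.Hyp N r :=
      { prime := hr.prime
        ne_two := hr.ne_two
        two := fun x hx => by rw [← Subgroup.orderOf_coe] at hx ⊢; exact hr.two _ hx
        qord := fun x hx => by rw [← Subgroup.orderOf_coe] at hx ⊢; exact hr.qord _ hx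
        ex := hex }
    obtain ⟨F, i1, i2, hodd', ⟨e⟩⟩ := TwoQ.simple_two_q hna hrN
    have h4 := four_le_card hna e
    obtain ⟨j, hj⟩ := hodd'
    have hg : Nat.gcd 2 (Fintype.card F - 1) = 2 := Nat.gcd_eq_left (by omega)
    have h8 : Fintype.card F % 8 = 3 ∨ Fintype.card F % 8 = 5 := by
      by_contra hc
      push Not at hc
      obtain ⟨y, hy⟩ : ∃ y : N, orderOf y = 4 := psl_exists e h4 (by rw [hg]; omega)
      exact hno4 y hy
    have h5 : 5 < Fintype.card F := by
      by_contra hle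
      have hq5 : Fintype.card F = 5 := by omega
      obtain ⟨x, hx⟩ := hex
      have hd := psl_order e x
      haveI : CharP F (ringChar F) := ringChar.charP F
      obtain ⟨n, hp, hpn⟩ := FiniteField.card F (ringChar F)
      rw [hq5] at hpn
      have hr5 : ringChar F = 5 :=
        (Nat.prime_dvd_prime_iff_eq hp (by norm_num)).1 (hpn ▸ dvd_pow_self _ n.ne_zero)
      rw [hx, hr5, hq5] at hd
      norm_num at hd
      have := hr.prime.two_le
      have := hr.ne_two
      rcases hd with hd | hd | hd <;> have := Nat.le_of_dvd (by norm_num) hd <;> omega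
    have htop : N = ⊤ := index_one hr hcen h4 e (Or.inr ⟨h8, hex⟩)
    subst htop
    obtain ⟨h1, h2⟩ := psl_omega (h.subgroup ⊤) e h4
    rw [hg] at h1 h2
    exact Or.inr (Or.inl ⟨F, i1, i2, h5, h8, h1, h2, ⟨(Subgroup.topEquiv (G := G)).symm.trans e⟩⟩)
  · exfalso
    have hC : CIT N := cit_of_no_two_mul fun r' x hr' hr2' hx => hex ⟨x, by
      have h' := hr.two (x : G) (by rw [Subgroup.orderOf_coe, hx]; exact dvd_mul_right 2 _)
      rw [Subgroup.orderOf_coe] at h'
      rcases h' with h' | h'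
      · rw [hx] at h'
        exact absurd (mul_eq_left₀ two_ne_zero |>.1 h') hr'.one_lt.ne'
      · exact h'⟩
    rcases classify hna hC hN2 (below_all _) with ⟨n, T, hT⟩ | hL | ⟨⟨w, -, -, -, hwo, -⟩, -⟩
    · have hTab : ∀ a b : T, a * b = b * a := fun a b => Subtype.ext (Subtype.ext
        (hr.two_comm (hT.T2.map N.subtype) ⟨_, a.2, rfl⟩ ⟨_, b.2, rfl⟩))
      rcases hT.kind with ⟨hTc, -, -⟩ | ⟨-, -, -, a, b, hab⟩
      swap
      · exact hab (hTab a b)
      rcases hT.ident_iso with ⟨F, i1, i2, hF, ⟨e⟩⟩ | ⟨hTc', -, -, -⟩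
      · have htop : N = ⊤ := index_one hr hcen
          (by rw [hF]; exact le_trans (by norm_num) (Nat.pow_le_pow_right two_pos hT.two_le)) e (Or.inl ⟨n, hF⟩)
        subst htop
        obtain ⟨x, hx⟩ := hr.ex
        exact hex ⟨⟨x, Subgroup.mem_top x⟩, by rw [Subgroup.orderOf_mk, hx]⟩
      · rw [hTc, pow_two, eq_comm, Nat.mul_eq_left (by positivity)] at hTc'
        have := Nat.one_lt_pow (show n ≠ 0 by have := hT.two_le; omega) (show 1 < 2 by norm_num)
        omega
    · obtain ⟨x, hx⟩ := exists_four_of_l34 hL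
      exact hno4 x hx
    · exact hno4 w hwo

/-- The structure of nonsolvable groups in which no prime divides three element orders. -/
theorem out (h : Three G) (hns : ¬ Group.IsSolvable G) : Out G := by
  by_cases hex : ∃ (r : ℕ) (x : G), r.Prime ∧ r ≠ 2 ∧ orderOf x = 2 * r
  · obtain ⟨r, x, hr, hr2, hx⟩ := hex
    exact out_of_two_mul hodd h hns (h.hyp hr hr2 hx)
  · push Not at hex
    refine out_of_cit (cit_of_no_two_mul fun r x hr hr2 => hex r x hr hr2) h hns ?_
    by_contra h2
    exact hns (hodd G (Nat.not_even_iff_odd.1 fun e => h2 (even_iff_two_dvd.1 e)))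

end Cfsg.Agent.Solv.SpecThree
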