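import Cfsg.Agent.Lib.Lie.TwoQ.Top
import Cfsg.Agent.Lib.Solv.CIT.EPPOSimple

/-!
Groups in which no prime divides three distinct element orders: first properties.
-/

set_option autoImplicit false
set_option linter.unusedSectionVars false
set_option linter.style.haveILetI false

namespace Cfsg.Agent.Solv.SpecThree

open Cfsg
open Cfsg.Agent.Solv.CITGroups
open Cfsg.Agent.Lie

universe u

/-- No prime divides three distinct element orders. -/
def Three (G : Type u) [Group G] : Prop :=
  ∀ p : ℕ, p.Prime → ∀ a b c : G, orderOf a ≠ orderOf b → orderOf b ≠ orderOf c → orderOf a ≠ orderOf c →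
    ¬ (p ∣ orderOf a ∧ p ∣ orderOf b ∧ p ∣ orderOf c)

variable {G : Type u} [Group G] [Finite G]

theorem exists_order (x : G) {m : ℕ} (h : m ∣ orderOf x) : ∃ y : G, orderOf y = m :=
  ⟨_, orderOf_pow_orderOf_div (orderOf_pos x).ne' h⟩

theorem Three.subgroup (h : Three G) (H : Subgroup G) : Three H := fun p hp a b c => by
  rw [← Subgroup.orderOf_coe a, ← Subgroup.orderOf_coe b, ← Subgroup.orderOf_coe c]
  exact h p hp a b c

theorem Three.quotient (h : Three G) (N : Subgroup G) [N.Normal] : Three (G ⧸ N) := by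
  intro p hp a b c hab hbc hac
  have key : ∀ q : G ⧸ N, ∃ y : G, orderOf y = orderOf q := fun q => by
    obtain ⟨x, rfl⟩ := QuotientGroup.mk'_surjective N q
    exact exists_order x (orderOf_map_dvd _ x)
  obtain ⟨a', ha⟩ := key a
  obtain ⟨b', hb⟩ := key b
  obtain ⟨c', hc⟩ := key c
  rw [← ha, ← hb] at hab
  rw [← hb, ← hc] at hbc
  rw [← ha, ← hc] at hac
  rw [← ha, ← hb, ← hc]
  exact h p hp a' b' c' hab hbc hac

/-- An element order has at most two prime factors. -/
theorem Three.omega_le (h : Three G) (x : G) : (orderOf x).primeFactorsList.length ≤ 2 := by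
  rcases hl : (orderOf x).primeFactorsList with _ | ⟨a, _ | ⟨b, _ | ⟨c, l⟩⟩⟩ <;> try simp
  exfalso
  have hprod : a * (b * (c * l.prod)) = orderOf x := by
    rw [← Nat.prod_primeFactorsList (orderOf_pos x).ne', hl]
    simp
  have hpr : ∀ r ∈ [a, b, c], r.Prime := fun r hr => Nat.prime_of_mem_primeFactorsList (n := orderOf x) (by
    rw [hl]
    simp only [List.mem_cons, List.not_mem_nil, or_false] at hr ⊢
    tauto)
  have ha := hpr a (by simp)
  have hb := hpr b (by simp)
  have hc := hpr c (by simp)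
  obtain ⟨y₁, h₁⟩ := exists_order x (m := a) ⟨_, hprod.symm⟩
  obtain ⟨y₂, h₂⟩ := exists_order x (m := a * b) ⟨c * l.prod, by rw [← hprod, mul_assoc]⟩
  obtain ⟨y₃, h₃⟩ := exists_order x (m := a * b * c) ⟨l.prod, by rw [← hprod]; ring⟩
  have h12 : a < a * b := lt_mul_of_one_lt_right ha.pos hb.one_lt
  have h23 : a * b < a * b * c := lt_mul_of_one_lt_right (Nat.mul_pos ha.pos hb.pos) hc.one_lt
  refine h a ha y₁ y₂ y₃ (by omega) (by omega) (by omega) ⟨?_, ?_, ?_⟩
  · rw [h₁]
  · rw [h₂]; exact dvd_mul_right a b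
  · rw [h₃, mul_assoc]; exact dvd_mul_right a _

theorem Three.no_eight (h : Three G) (x : G) : orderOf x ≠ 8 := fun e => by
  have := h.omega_le x
  rw [e, show (8 : ℕ) = 2 ^ 3 by norm_num, Nat.Prime.primeFactorsList_pow Nat.prime_two,
    List.length_replicate] at this
  omega

/-- An element of order twice an odd prime gives the two-prime hypothesis. -/
theorem Three.hyp (h : Three G) {r : ℕ} (hr : r.Prime) (hr2 : r ≠ 2) {x : G} (hx : orderOf x = 2 * r) :
    TwoQ.Hyp G r where
  prime := hr
  ne_two := hr2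
  ex := ⟨x, hx⟩
  two y hy := by
    by_contra hc
    push Not at hc
    obtain ⟨t, ht⟩ := exists_order x (m := 2) (hx ▸ dvd_mul_right 2 r)
    refine h 2 Nat.prime_two t x y ?_ ?_ ?_ ⟨dvd_of_eq ht.symm, hx ▸ dvd_mul_right 2 r, hy⟩
    · have := hr.two_le; omega
    · omega
    · omega
  qord y hy := by
    by_contra hc
    push Not at hc
    obtain ⟨t, ht⟩ := exists_order x (m := r) (hx ▸ dvd_mul_left r 2)
    refine h r hr t x y ?_ ?_ ?_ ⟨dvd_of_eq ht.symm, hx ▸ dvd_mul_left r 2, hy⟩
    · have := hr.pos; omega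
    · omega
    · omega

/-- Without elements of order twice an odd prime, centralisers of involutions are 2-groups. -/
theorem cit_of_no_two_mul (h : ∀ (r : ℕ) (x : G), r.Prime → r ≠ 2 → orderOf x ≠ 2 * r) : CIT G := by
  intro t ht
  refine IsPGroup.of_card (Nat.eq_prime_pow_of_unique_prime_dvd Nat.card_pos.ne' fun {r} hr hrd => ?_)
  by_contra hr2
  haveI := Fact.mk hr
  obtain ⟨⟨y, hy⟩, hyo⟩ := exists_prime_orderOf_dvd_card' r hrd
  rw [Subgroup.orderOf_mk] at hyo
  refine h r (t * y) hr hr2 ?_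
  have hc : Commute t y := (Subgroup.mem_centralizer_singleton_iff.1 hy).symm
  rw [hc.orderOf_mul_eq_mul_orderOf_of_coprime (by
    rw [ht, hyo]; exact (Nat.coprime_primes Nat.prime_two hr).2 (Ne.symm hr2)), ht, hyo]

section Burnside

/-- A group with an abelian Sylow 2-subgroup centralised by its normaliser is solvable. -/
theorem solvable_of_central (hodd : ∀ (X : Type u) [Group X] [Finite X], Odd (Nat.card X) → Group.IsSolvable X)
    (S : Sylow 2 G) (h : Subgroup.normalizer ((S : Subgroup G) : Set G) ≤ Subgroup.centralizer ((S : Subgroup G) : Set G)) :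
    Group.IsSolvable G := by
  haveI : Fact (Nat.Prime 2) := ⟨Nat.prime_two⟩
  set φ := MonoidHom.transferSylow S h with hφ
  have hc : (φ.ker).IsComplement' (S : Subgroup G) := MonoidHom.ker_transferSylow_isComplement' S h
  haveI : Group.IsSolvable φ.ker := by
    refine hodd _ (Nat.not_even_iff_odd.1 fun e => ?_)
    exact MonoidHom.not_dvd_card_ker_transferSylow S h (even_iff_two_dvd.1 e)
  haveI := S.isPGroup'.isNilpotent
  exact Group.isSolvable_of_ker_le_range φ.ker.subtype φ (by rw [Subgroup.range_subtype])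

end Burnside

variable {r : ℕ}

/-- The subgroup generated by the involutions. -/
def invols (G : Type u) [Group G] : Subgroup G := Subgroup.closure {t : G | t * t = 1}

instance invols_normal : (invols G).Normal := by
  refine ⟨fun n hn g => ?_⟩
  have hle : (invols G).map (MulAut.conj g).toMonoidHom ≤ invols G := by
    rw [invols, MonoidHom.map_closure, Subgroup.closure_le]
    rintro _ ⟨t, ht, rfl⟩
    refine Subgroup.subset_closure ?_
    show g * t * g⁻¹ * (g * t * g⁻¹) = 1
    rw [show g * t * g⁻¹ * (g * t * g⁻¹) = g * (t * t) * g⁻¹ by group, show t * t = 1 from ht, mul_one,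
      mul_inv_cancel]
  exact hle ⟨n, hn, rfl⟩

theorem invol_mem {t : G} (ht : t * t = 1) : t ∈ invols G := Subgroup.subset_closure ht

variable (hr : TwoQ.Hyp G r) (hodd : ∀ (X : Type u) [Group X] [Finite X], Odd (Nat.card X) → Group.IsSolvable X)
include hr hodd

/-- If all involutions centralise a nontrivial element of order two or `r`, the group is solvable. -/
theorem solvable_of_invols {x : G} (hx : orderOf x = 2 ∨ orderOf x = r)
    (h : ∀ t : G, t * t = 1 → Commute t x) : Group.IsSolvable G := by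
  haveI : Fact (Nat.Prime 2) := ⟨Nat.prime_two⟩
  have hle : invols G ≤ Subgroup.centralizer ({x} : Set G) :=
    (Subgroup.closure_le _).2 fun t ht => Lie.TwoQ.memC (h t ht)
  haveI := hr.cent_solvable hx
  haveI : Group.IsSolvable (invols G) := Solv.isSolvable_of_le hle inferInstance
  haveI : Group.IsSolvable (G ⧸ invols G) := by
    obtain ⟨S⟩ : Nonempty (Sylow 2 G) := inferInstance
    refine hodd _ (Nat.not_even_iff_odd.1 fun e => ?_)
    exact S.not_dvd_index ((even_iff_two_dvd.1 e).trans
      (Subgroup.index_dvd_of_le fun v hv => invol_mem (hr.two_sq S.isPGroup' hv)))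
  exact Group.isSolvable_of_ker_le_range (invols G).subtype (QuotientGroup.mk' (invols G))
    (by rw [QuotientGroup.ker_mk', Subgroup.range_subtype])

/-- A nonsolvable group with an element of order `2r` has no nontrivial normal subgroup of prime power order. -/
theorem pgroup_eq_bot (hns : ¬ Group.IsSolvable G) {p : ℕ} (hp : p.Prime) {E : Subgroup G} [E.Normal]
    (hE : IsPGroup p E) : E = ⊥ := by
  classical
  haveI : Fact (Nat.Prime 2) := ⟨Nat.prime_two⟩
  haveI := Fact.mk hp
  by_contra hE1
  obtain ⟨S⟩ : Nonempty (Sylow 2 G) := inferInstance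
  have hSc : ∀ a ∈ (S : Subgroup G), ∀ b ∈ (S : Subgroup G), a * b = b * a :=
    fun a ha b hb => hr.two_comm S.isPGroup' ha hb
  by_cases hp2 : p = 2
  · subst hp2
    obtain ⟨x, hxE, hxo⟩ := exists_invol_mem hE hE1
    refine hns (solvable_of_invols hr hodd (Or.inl hxo) fun t ht => ?_)
    by_cases ht1 : t = 1
    · rw [ht1]; exact Commute.one_left x
    have hT : IsPGroup 2 (Subgroup.zpowers t) := IsPGroup.of_card (n := 1)
      (by rw [Nat.card_zpowers, orderOf_two_iff.2 ⟨ht, ht1⟩, pow_one])
    have hP : IsPGroup 2 (E ⊔ Subgroup.zpowers t : Subgroup G) := IsPGroup.to_sup_of_normal_left hE hT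
    exact hr.two_comm hP (Subgroup.mem_sup_right (Subgroup.mem_zpowers t)) (Subgroup.mem_sup_left hxE)
  -- two commuting involutions force the prime to be `r`
  have hEodd : Odd (Nat.card E) := by
    obtain ⟨n, hn⟩ := IsPGroup.iff_card.1 hE
    rw [hn]
    exact (hp.odd_of_ne_two hp2).pow
  obtain ⟨s, hsS, hso⟩ : ∃ s ∈ (S : Subgroup G), orderOf s = 2 := by
    refine exists_invol_mem S.isPGroup' (S.ne_bot_of_dvd_card ?_)
    by_contra h2
    exact hns (hodd G (Nat.not_even_iff_odd.1 fun e => h2 (even_iff_two_dvd.1 e)))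
  have hnorm : ∀ g : G, g ∈ Subgroup.normalizer (E : Set G) := fun g => by simp [Subgroup.normalizer_eq_top]
  have htwo : ∃ t ∈ (S : Subgroup G), orderOf t = 2 ∧ s ≠ t := by
    by_contra hno
    push Not at hno
    refine hns (solvable_of_central hodd S fun n hn => Subgroup.mem_centralizer_iff.2 fun v hv => ?_)
    have hval : ∀ w ∈ (S : Subgroup G), w = 1 ∨ w = s := fun w hw => by
      by_cases hw1 : w = 1
      · exact Or.inl hw1
      · exact Or.inr (hno w hw (orderOf_two_iff.2 ⟨hr.two_sq S.isPGroup' hw, hw1⟩)).symm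
    by_cases hv1 : v = 1
    · rw [hv1, one_mul, mul_one]
    have hvs := (hval v hv).resolve_left hv1
    rcases hval _ ((Subgroup.mem_normalizer_iff.1 hn v).1 hv) with e | e
    · exact absurd (conj_eq_one_iff.1 e) hv1
    · exact (mul_inv_eq_iff_eq_mul.1 (e.trans hvs.symm)).symm
  obtain ⟨t, htS, hto, hst⟩ := htwo
  have hEr : IsPGroup r E := hr.odd_invariant hEodd hso hto (hSc s hsS t htS) hst (hnorm s) (hnorm t)
  haveI := Fact.mk hr.prime
  haveI := (Subgroup.nontrivial_iff_ne_bot E).2 hE1
  obtain ⟨⟨x, hxE⟩, hx1'⟩ := Subgroup.ne_bot_iff_exists_ne_one.1 hE1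
  have hx1 : x ≠ 1 := fun e => hx1' (Subtype.ext e)
  have hxr : orderOf x = r := hr.orderOf_of_mem hEr hxE hx1
  set C := Subgroup.centralizer (E : Set G) with hC
  haveI hCn : C.Normal := Subgroup.normal_centralizer
  have hCx : C ≤ Subgroup.centralizer ({x} : Set G) := Subgroup.centralizer_le (Set.singleton_subset_iff.2 hxE)
  haveI := hr.cent_solvable (Or.inr hxr)
  haveI hCsol : Group.IsSolvable C := Solv.isSolvable_of_le hCx inferInstance
  -- odd elements normalising the Sylow subgroup centralise it modulo `C`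
  have hcomm : ∀ a ∈ Subgroup.normalizer ((S : Subgroup G) : Set G), ∀ e ∈ (S : Subgroup G),
      e⁻¹ * (a * e * a⁻¹) ∈ C := by
    intro a ha
    obtain ⟨u, w, k, he, hu, hw, huo, hwo⟩ := exists_parts a
    have hmem : ∀ z ∈ Subgroup.zpowers a, z ∈ Subgroup.normalizer ((S : Subgroup G) : Set G) := fun z hz =>
      Subgroup.zpowers_le.2 ha hz
    have huS : u ∈ (S : Subgroup G) := Lie.TwoQ.mem_sylow_of_normalizer S (hmem u hu) huo
    have hwn := hmem w hw
    have hprime : ∀ z ∈ Subgroup.normalizer ((S : Subgroup G) : Set G), ∀ p' : ℕ, p'.Prime → p' ≠ 2 →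
        orderOf z = p' → ∀ e ∈ (S : Subgroup G), e⁻¹ * (z * e * z⁻¹) ∈ C := fun z hz p' hp' hp2' hzo =>
      hr.centralizes hp' hp2' hzo hEr S.isPGroup' (hnorm z) hz fun v _ => hnorm v
    by_cases hw1 : w = 1
    · intro e he'
      rw [he, hw1, mul_one, hSc u huS e he', mul_inv_cancel_right, inv_mul_cancel]
      exact one_mem _
    -- every prime divisor of the order of `w` is `r`
    have hwr : orderOf w = r := by
      have hdr : r ∣ orderOf w := by
        obtain ⟨p', i, hp', hd, hio⟩ := Lie.TwoQ.exists_prime_pow_power hw1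
        by_cases hpr : p' = r
        · exact hpr ▸ hd
        exfalso
        have hp2' : p' ≠ 2 := fun e => Nat.not_even_iff_odd.2 hwo (even_iff_two_dvd.2 (e ▸ hd))
        set z := w ^ i
        have hzn : z ∈ Subgroup.normalizer ((S : Subgroup G) : Set G) := Subgroup.pow_mem _ hwn i
        let f : ↥(S : Subgroup G) → ↥(S : Subgroup G) := fun e =>
          ⟨(e : G)⁻¹ * (z * e * z⁻¹), mul_mem (inv_mem e.2) ((Subgroup.mem_normalizer_iff.1 hzn e).1 e.2)⟩
        have hf : Function.Injective f := by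
          intro e₁ e₂ he12
          have h12 : (e₁ : G)⁻¹ * (z * e₁ * z⁻¹) = (e₂ : G)⁻¹ * (z * e₂ * z⁻¹) := congrArg Subtype.val he12
          have hfix : Commute z ((e₂ : G) * (e₁ : G)⁻¹) := by
            refine mul_inv_eq_iff_eq_mul.1 ?_
            calc z * ((e₂ : G) * (e₁ : G)⁻¹) * z⁻¹ = (z * e₂ * z⁻¹) * (z * e₁ * z⁻¹)⁻¹ := by group
              _ = (e₂ : G) * ((e₂ : G)⁻¹ * (z * e₂ * z⁻¹)) * ((e₁ : G) * ((e₁ : G)⁻¹ * (z * e₁ * z⁻¹)))⁻¹ := by group
              _ = _ := by rw [h12]; group
          by_contra hne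
          have hne' : (e₂ : G) * (e₁ : G)⁻¹ ≠ 1 := fun e => hne (Subtype.ext (mul_inv_eq_one.1 e).symm)
          exact hr.no_commute (Or.inl (orderOf_two_iff.2 ⟨hr.two_sq S.isPGroup' (mul_mem e₂.2 (inv_mem e₁.2)), hne'⟩))
            hp' hp2' hpr hio hfix.symm
        have hall : ∀ e ∈ (S : Subgroup G), e ∈ C := fun e he' => by
          obtain ⟨e₀, he₀⟩ := (Finite.injective_iff_surjective.1 hf) ⟨e, he'⟩
          rw [← show (e₀ : G)⁻¹ * (z * e₀ * z⁻¹) = e from congrArg Subtype.val he₀]
          exact hprime z hzn p' hp' hp2' hio e₀ e₀.2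
        refine hns (solvable_of_invols hr hodd (Or.inr hxr) fun t' ht' => ?_)
        by_cases ht1 : t' = 1
        · rw [ht1]; exact Commute.one_left x
        obtain ⟨T, hT⟩ := (IsPGroup.of_card (n := 1) (by rw [Nat.card_zpowers, orderOf_two_iff.2 ⟨ht', ht1⟩, pow_one]) :
          IsPGroup 2 (Subgroup.zpowers t')).exists_le_sylow
        obtain ⟨g, rfl⟩ := MulAction.exists_smul_eq G S T
        have hmem' := hT (Subgroup.mem_zpowers t')
        rw [Sylow.coe_subgroup_smul] at hmem'
        obtain ⟨e, he', rfl⟩ := hmem'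
        exact (Lie.TwoQ.commute_of_memC (hCx (hCn.conj_mem e (hall e he') g)))
      rcases hr.qord w hdr with e | e
      · exact e
      · exact absurd (e ▸ hwo) (by simp [parity_simps])
    intro e he'
    have h1 := hprime w hwn r hr.prime hr.ne_two hwr e he'
    rw [he]
    have hwe : w * e * w⁻¹ ∈ (S : Subgroup G) := (Subgroup.mem_normalizer_iff.1 hwn e).1 he'
    rwa [show u * w * e * (u * w)⁻¹ = u * (w * e * w⁻¹) * u⁻¹ by group, hSc u huS _ hwe, mul_inv_cancel_right]
  -- so the quotient is solvable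
  let S' : Sylow 2 (G ⧸ C) := S.mapSurjective (QuotientGroup.mk'_surjective C)
  refine hns ?_
  haveI : Group.IsSolvable (G ⧸ C) := by
    refine solvable_of_central (fun X _ _ hX => hodd X hX) S' fun y hy => ?_
    obtain ⟨g, rfl⟩ := QuotientGroup.mk'_surjective C y
    have hyS : ∀ e ∈ (S : Subgroup G), QuotientGroup.mk' C (g * e * g⁻¹) ∈ (S' : Subgroup (G ⧸ C)) := fun e he' => by
      rw [map_mul, map_mul, map_inv]
      exact (Subgroup.mem_normalizer_iff.1 hy _).1 ⟨e, he', rfl⟩
    set M := (S' : Subgroup (G ⧸ C)).comap (QuotientGroup.mk' C)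
    have hSM : (S : Subgroup G) ≤ M := fun e he' => ⟨e, he', rfl⟩
    have hgM : (g • S : Sylow 2 G).toSubgroup ≤ M := by
      intro v hv
      rw [Sylow.coe_subgroup_smul] at hv
      obtain ⟨e, he', rfl⟩ := hv
      exact hyS e he'
    obtain ⟨⟨m, hmM⟩, hm⟩ := MulAction.exists_smul_eq M ((g • S).subtype hgM) (S.subtype hSM)
    have hn : m * g ∈ Subgroup.normalizer ((S : Subgroup G) : Set G) := by
      refine Sylow.smul_eq_iff_mem_normalizer.1 ?_
      rw [mul_smul]
      simp only [Sylow.smul_subtype, Subgroup.smul_def] at hm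
      exact Sylow.subtype_injective hm
    refine Subgroup.mem_centralizer_iff.2 ?_
    rintro _ ⟨e, he', rfl⟩
    obtain ⟨e₀, he₀, hme⟩ := hmM
    have hc1 : QuotientGroup.mk' C ((m * g) * e * (m * g)⁻¹) = QuotientGroup.mk' C e := by
      have := (QuotientGroup.eq_one_iff (N := C) (e⁻¹ * ((m * g) * e * (m * g)⁻¹))).2 (hcomm _ hn e he')
      rw [← QuotientGroup.mk'_apply, map_mul, map_inv, inv_mul_eq_one] at this
      exact this.symm
    have hc2 : QuotientGroup.mk' C (e₀ * e) = QuotientGroup.mk' C (e * e₀) := by rw [hSc _ he₀ _ he']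
    simp only [map_mul, map_inv, ← hme] at hc1 hc2
    rw [mul_inv_eq_iff_eq_mul] at hc1
    refine mul_left_cancel (a := QuotientGroup.mk' C e₀) ?_
    calc QuotientGroup.mk' C e₀ * (QuotientGroup.mk' C e * QuotientGroup.mk' C g)
        = QuotientGroup.mk' C e * (QuotientGroup.mk' C e₀ * QuotientGroup.mk' C g) := by
          rw [← mul_assoc, hc2, mul_assoc]
      _ = QuotientGroup.mk' C e₀ * (QuotientGroup.mk' C g * QuotientGroup.mk' C e) := by
          rw [← hc1, mul_assoc]
  exact Group.isSolvable_of_ker_le_range C.subtype (QuotientGroup.mk' C)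
    (by rw [QuotientGroup.ker_mk', Subgroup.range_subtype])

/-- The solvable radical is trivial. -/
theorem solvable_normal_eq_bot (hns : ¬ Group.IsSolvable G) (K : Subgroup G) [K.Normal] (hK : Group.IsSolvable K) :
    K = ⊥ := by
  by_contra hK1
  obtain ⟨M, hMn, hM1, hMle, hmin⟩ := Solv.exists_minimal_normal_le K hK1
  haveI := hMn
  obtain ⟨-, p, hp, hex, -⟩ := Solv.minimal_normal_elementaryAbelian M (Solv.isSolvable_of_le hMle hK) hM1 hmin
  haveI := Fact.mk hp
  exact hM1 (pgroup_eq_bot hr hodd hns hp (E := M) fun x => ⟨1, Subtype.ext (by simpa using hex x.1 x.2)⟩)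

/-- A minimal normal subgroup is simple with trivial centraliser. -/
theorem minimal_simple (hns : ¬ Group.IsSolvable G) {N : Subgroup G} [hNn : N.Normal] (hN1 : N ≠ ⊥)
    (hmin : ∀ M : Subgroup G, M.Normal → M ≤ N → M = ⊥ ∨ M = N) :
    IsSimpleGroup N ∧ (∃ a b : N, a * b ≠ b * a) ∧ 2 ∣ Nat.card N ∧ Subgroup.centralizer (N : Set G) = ⊥ := by
  classical
  haveI : Fact (Nat.Prime 2) := ⟨Nat.prime_two⟩
  haveI : Nontrivial N := (Subgroup.nontrivial_iff_ne_bot N).2 hN1
  have hnsN : ¬ Group.IsSolvable N := fun h => hN1 (solvable_normal_eq_bot hr hodd hns N h)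
  have heven : ∀ H : Subgroup G, ¬ Group.IsSolvable H → ∃ s ∈ H, orderOf s = 2 := fun H hH => by
    obtain ⟨⟨s, hs⟩, hso⟩ := exists_prime_orderOf_dvd_card' (G := H) 2 (by
      by_contra h2
      exact hH (hodd _ (Nat.not_even_iff_odd.1 fun e => h2 (even_iff_two_dvd.1 e))))
    exact ⟨s, hs, by rwa [Subgroup.orderOf_mk] at hso⟩
  obtain ⟨t, htN, hto⟩ := heven N hnsN
  refine ⟨⟨fun S₀ hS₀ => or_iff_not_imp_left.2 fun hS0 => ?_⟩, ?_, ?_, ?_⟩
  · obtain ⟨S', hS'n, hS'1, hS'le, hS'min⟩ := Solv.exists_minimal_normal_le S₀ hS0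
    haveI := hS'n
    by_contra hne
    have hS'top : S' ≠ ⊤ := fun e => hne (top_le_iff.1 (e ▸ hS'le))
    set Sg := S'.map N.subtype with hSg
    obtain ⟨g, hg⟩ : ∃ g : G, ¬ Sg.map (MulAut.conj g).toMonoidHom ≤ Sg := by
      by_contra hall
      push Not at hall
      haveI : Sg.Normal := ⟨fun x hx g => hall g ⟨x, hx, rfl⟩⟩
      have h1 := (hmin Sg inferInstance (Subgroup.map_subtype_le _)).resolve_left
        fun e => hS'1 ((Subgroup.map_eq_bot_iff_of_injective _ N.subtype_injective).1 e)
      refine hS'top (top_le_iff.1 fun y _ => ?_)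
      obtain ⟨z, hz, e⟩ := h1.ge y.2
      rwa [show y = z from Subtype.ext e.symm]
    let φ : N →* N := ((MulAut.conjNormal g : MulAut N)).toMonoidHom
    have hφ : Function.Bijective φ := (MulAut.conjNormal g : MulAut N).bijective
    set S'' := S'.map φ with hS''
    haveI : S''.Normal := hS'n.map φ hφ.2
    have hS''Sg : S''.map N.subtype = Sg.map (MulAut.conj g).toMonoidHom := by
      rw [hS'', hSg, Subgroup.map_map, Subgroup.map_map]
      congr 1
    have hcard : Nat.card S'' = Nat.card S' := Subgroup.card_map_of_injective hφ.1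
    have hdis : Disjoint S' S'' := by
      rw [disjoint_iff]
      refine (hS'min (S' ⊓ S'') inferInstance inf_le_left).resolve_right fun e => hg ?_
      rw [← hS''Sg, ← Subgroup.eq_of_le_of_card_ge (inf_eq_left.1 e) hcard.le, hSg]
    have hnsS : ¬ Group.IsSolvable Sg := by
      intro hsol
      have hsol' : Group.IsSolvable S' := Group.isSolvable_of_isSolvable_injective
        (f := (S'.equivMapOfInjective N.subtype N.subtype_injective).toMonoidHom) (MulEquiv.injective _)
      obtain ⟨hab, p, hp, hex, -⟩ := Solv.minimal_normal_elementaryAbelian S' hsol' hS'1 hS'min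
      haveI := Fact.mk hp
      have hP : IsPGroup p S' := fun x => ⟨1, Subtype.ext (by simpa using hex x.1 x.2)⟩
      haveI := Solv.pCore_normal (G := N) p
      haveI : (Cfsg.pCore p N).Characteristic := Fusion.pCore_characteristic
      have hcb : (Cfsg.pCore p N).map N.subtype = ⊥ :=
        pgroup_eq_bot hr hodd hns hp ((Solv.pCore_isPGroup p : IsPGroup p (Cfsg.pCore p N)).map N.subtype)
      exact hS'1 (le_bot_iff.1 ((Solv.normal_le_pCore hP).trans
        ((Subgroup.map_eq_bot_iff_of_injective _ N.subtype_injective).1 hcb).le))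
    have hnsS'' : ¬ Group.IsSolvable (S''.map N.subtype) := fun h => hnsS (by
      rw [hS''Sg] at h
      exact Group.isSolvable_of_isSolvable_injective
        (f := (Sg.equivMapOfInjective (MulAut.conj g).toMonoidHom (MulAut.conj g).injective).toMonoidHom)
        (MulEquiv.injective _))
    obtain ⟨s, ⟨s', hs', rfl⟩, hso⟩ := heven _ hnsS''
    haveI := hr.cent_solvable (Or.inl hso)
    refine hnsS (Solv.isSolvable_of_le (K := Subgroup.centralizer ({(N.subtype s')} : Set G)) ?_ inferInstance)
    rintro _ ⟨y, hy, rfl⟩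
    exact Lie.TwoQ.memC ((Subgroup.commute_of_normal_of_disjoint S' S'' hS'n inferInstance hdis y s' hy hs').map
      N.subtype)
  · by_contra hcomm
    push Not at hcomm
    exact hnsN (Group.isSolvable_of_comm hcomm)
  · exact hto ▸ Subgroup.orderOf_dvd_natCard N htN
  · haveI := hr.cent_solvable (Or.inl hto)
    exact solvable_normal_eq_bot hr hodd hns _ (Solv.isSolvable_of_le
      (Subgroup.centralizer_le (Set.singleton_subset_iff.2 htN)) inferInstance)

end Cfsg.Agent.Solv.SpecThree
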