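import Cfsg.Agent.Lib.Solv.OddGated.SpecThree.Basic
import Cfsg.Agent.Lib.Lie.FPFTop.Top
import Cfsg.Agent.Lib.Lie.FPFTop.CNAlmost
import Cfsg.Agent.Lib.Solv.CIT.OrdersFive
import Cfsg.Agent.Lib.Lie.SuzukiPartition

/-!
Groups in which no prime divides three distinct element orders and involutions have 2-group centralisers.
-/

set_option autoImplicit false
set_option linter.unusedSectionVars false
set_option linter.style.haveILetI false

namespace Cfsg.Agent.Solv.SpecThree

open Cfsg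
open Cfsg.Agent.Solv.CITGroups
open Cfsg.Agent.Lie

universe u

variable {G : Type u} [Group G] [Finite G]

/-- The element orders of a linear group in dimension two. -/
theorem psl_order {H : Type u} [Group H] {F : Type} [Field F] [Fintype F]
    (e : H ≃* Matrix.ProjectiveSpecialLinearGroup (Fin 2) F) (y : H) :
    orderOf y ∣ ringChar F ∨ orderOf y ∣ (Fintype.card F - 1) / Nat.gcd 2 (Fintype.card F - 1) ∨
      orderOf y ∣ (Fintype.card F + 1) / Nat.gcd 2 (Fintype.card F - 1) := by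
  haveI : Fact (ringChar F).Prime := ⟨CharP.char_is_prime F _⟩
  rw [← orderOf_injective e.toMonoidHom e.injective y]
  exact Small.SL2C.orderOf_dvd (ringChar F) _

/-- Elements of a linear group in dimension two with prescribed orders. -/
theorem psl_exists {H : Type u} [Group H] {F : Type} [Field F] [Fintype F]
    (e : H ≃* Matrix.ProjectiveSpecialLinearGroup (Fin 2) F) (h4 : 4 ≤ Fintype.card F) {m : ℕ}
    (hm : m ∣ (Fintype.card F - 1) / Nat.gcd 2 (Fintype.card F - 1) ∨
      m ∣ (Fintype.card F + 1) / Nat.gcd 2 (Fintype.card F - 1)) : ∃ y : H, orderOf y = m := by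
  obtain ⟨p, hp⟩ := CharP.exists F
  haveI : Fact p.Prime := ⟨CharP.char_is_prime F p⟩
  obtain ⟨y, hy⟩ := Small.SL2C.order_exists p h4 m (Or.inr hm)
  exact ⟨e.symm y, by rw [← hy]; exact orderOf_injective e.symm.toMonoidHom e.symm.injective y⟩

/-- The two torus orders have at most two prime factors. -/
theorem psl_omega {H : Type u} [Group H] [Finite H] (h : Three H) {F : Type} [Field F] [Fintype F]
    (e : H ≃* Matrix.ProjectiveSpecialLinearGroup (Fin 2) F) (h4 : 4 ≤ Fintype.card F) :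
    ((Fintype.card F + 1) / Nat.gcd 2 (Fintype.card F - 1)).primeFactorsList.length ≤ 2 ∧
      ((Fintype.card F - 1) / Nat.gcd 2 (Fintype.card F - 1)).primeFactorsList.length ≤ 2 := by
  constructor
  · obtain ⟨y, hy⟩ := psl_exists e h4 (Or.inr dvd_rfl)
    exact hy ▸ h.omega_le y
  · obtain ⟨y, hy⟩ := psl_exists e h4 (Or.inl dvd_rfl)
    exact hy ▸ h.omega_le y

theorem gcd_two_pow {q n : ℕ} (hq : q = 2 ^ n) (hn : 0 < n) : Nat.gcd 2 (q - 1) = 1 := by
  refine Nat.coprime_iff_gcd_eq_one.1 ((Nat.prime_two.coprime_iff_not_dvd).2 fun hd => ?_)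
  have h1 : 2 ∣ q := hq ▸ dvd_pow_self 2 hn.ne'
  have := Nat.one_le_two_pow (n := n)
  omega

/-- The two parts of a product of a power of two and an odd number are unique. -/
theorem pow_mul_odd_inj {a b x y : ℕ} (h : 2 ^ a * x = 2 ^ b * y) (hx : Odd x) (hy : Odd y) : a = b := by
  rcases lt_trichotomy a b with hlt | he | hlt
  · exfalso
    obtain ⟨c, rfl⟩ := Nat.exists_eq_add_of_lt hlt
    rw [pow_add, pow_add, pow_one, mul_assoc, mul_assoc] at h
    have := Nat.eq_of_mul_eq_mul_left (Nat.two_pow_pos a) h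
    rw [this] at hx
    exact absurd hx (by simp [parity_simps])
  · exact he
  · exfalso
    obtain ⟨c, rfl⟩ := Nat.exists_eq_add_of_lt hlt
    rw [pow_add, pow_add, pow_one, mul_assoc, mul_assoc] at h
    have := Nat.eq_of_mul_eq_mul_left (Nat.two_pow_pos b) h
    rw [← this] at hy
    exact absurd hy (by simp [parity_simps])

section Eight

variable (hC : CIT G) (h : Three G) (D : Subgroup G) [D.Normal] [IsMulCommutative D] (hD : IsPGroup 2 D)
include hC h hD

/-- A cyclic group of order four acting regularly on an odd subgroup of the quotient gives an element of order eight. -/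
theorem false_of_four (hsq : ∀ d ∈ D, d * d = 1) (hD1 : D ≠ ⊥) (U : Subgroup (G ⧸ D)) (hU : Odd (Nat.card U))
    (hU1 : U ≠ ⊥) (hcent : ∀ w ∈ U, w ≠ 1 → ∀ z, Commute z w → z ∈ U) (t : G ⧸ D) (ht4 : t ^ 4 = 1)
    (ht2 : t ^ 2 ≠ 1) (htU : t ∈ Subgroup.normalizer (U : Set (G ⧸ D))) : False := by
  classical
  haveI : Fact (Nat.Prime 2) := ⟨Nat.prime_two⟩
  letI := Fintype.ofFinite U
  letI : CommGroup D := { (inferInstance : Group D) with mul_comm := fun a b => mul_comm' a b }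
  let ψ : G ⧸ D →* MulAut D := QuotientGroup.lift D MulAut.conjNormal fun d hd => by
    refine MulEquiv.ext fun x => Subtype.ext ?_
    rw [MulAut.conjNormal_apply, MulAut.one_apply]
    have := congrArg Subtype.val (mul_comm' (⟨d, hd⟩ : D) x)
    simp only [Subgroup.coe_mul] at this
    rw [this, mul_inv_cancel_right]
  have hψ : ∀ (g : G) (x : D), ((ψ (QuotientGroup.mk' D g) x : D) : G) = g * x * g⁻¹ := fun g x => rfl
  -- elements of `U` act without fixed points
  have hfix : ∀ w ∈ U, w ≠ 1 → ∀ x : D, ψ w x = x → x = 1 := by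
    intro w hw hw1 x hx
    obtain ⟨g, rfl⟩ := QuotientGroup.mk'_surjective D w
    obtain ⟨a, b, k, he, ha, hb, hao, hbo⟩ := exists_parts g
    have hma : QuotientGroup.mk' D a = 1 := by
      refine orderOf_eq_one_iff.1 (Nat.eq_one_of_dvd_coprimes (a := 2 ^ k)
        (b := orderOf (QuotientGroup.mk' D g)) ?_ (hao ▸ orderOf_map_dvd _ a) ?_)
      · exact (Nat.coprime_two_left.2 (hU.of_dvd_nat (Subgroup.orderOf_dvd_natCard U hw))).pow_left k
      · obtain ⟨i, hi⟩ := Subgroup.mem_zpowers_iff.1 ha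
        rw [← hi, map_zpow]
        exact orderOf_dvd_of_mem_zpowers (Subgroup.zpow_mem_zpowers _ i)
    have hgb : QuotientGroup.mk' D g = QuotientGroup.mk' D b := by rw [he, map_mul, hma, one_mul]
    rw [hgb] at hw1 hx
    refine Subtype.ext (hC.fpf_mem hbo (fun e => hw1 (by rw [e, map_one])) hD x.2 ?_)
    have := hψ b x
    rw [hx] at this
    exact mul_inv_eq_iff_eq_mul.1 this.symm
  obtain ⟨u₀, hu₀, hu₁⟩ : ∃ u₀ ∈ U, u₀ ≠ (1 : G ⧸ D) := by
    by_contra hc
    push Not at hc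
    exact hU1 ((Subgroup.eq_bot_iff_forall U).2 hc)
  have hnorm : ∀ x : D, ∏ w : U, ψ (w : G ⧸ D) x = 1 := fun x => by
    refine hfix u₀ hu₀ hu₁ _ ?_
    rw [map_prod]
    exact Fintype.prod_equiv (Equiv.mulLeft (⟨u₀, hu₀⟩ : U)) _ _ fun w => by
      rw [← MulAut.mul_apply, ← map_mul]
      rfl
  obtain ⟨v, hv1⟩ := Subgroup.ne_bot_iff_exists_ne_one.1 hD1
  have hvv : v * v = 1 := Subtype.ext (hsq v v.2)
  have hz : ∀ i : ℕ, t ^ i ≠ 1 → i < 4 → ∏ w : U, ψ ((w : G ⧸ D) * t ^ i * (w : G ⧸ D)⁻¹) v = 1 := by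
    intro i hi hi4
    set z := t ^ i with hzdef
    have hzU : z ∈ Subgroup.normalizer (U : Set (G ⧸ D)) := Subgroup.pow_mem _ htU i
    have hznot : z ∉ U := fun hzm => by
      have h1 : orderOf z ∣ 4 := orderOf_dvd_of_pow_eq_one (by rw [hzdef, ← pow_mul, mul_comm, pow_mul, ht4, one_pow])
      have h2 : Odd (orderOf z) := hU.of_dvd_nat (Subgroup.orderOf_dvd_natCard U hzm)
      exact hi (orderOf_eq_one_iff.1 (Nat.eq_one_of_dvd_coprimes (Nat.coprime_two_left.2 h2)
        (by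
          rcases (Nat.dvd_prime_pow Nat.prime_two (m := 2)).1 h1 with ⟨j, hj, e⟩
          rcases j with _ | j
          · rw [e]; exact one_dvd _
          · exact absurd (e ▸ h2) (by simp [parity_simps])) dvd_rfl))
    let f : U → U := fun w => ⟨(w : G ⧸ D) * (z * (w : G ⧸ D)⁻¹ * z⁻¹),
      mul_mem w.2 ((Subgroup.mem_normalizer_iff.1 hzU _).1 (inv_mem w.2))⟩
    have hf : Function.Injective f := by
      intro a b hab
      have hab' : (a : G ⧸ D) * (z * (a : G ⧸ D)⁻¹ * z⁻¹) = b * (z * (b : G ⧸ D)⁻¹ * z⁻¹) :=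
        congrArg Subtype.val hab
      have hcm : Commute z ((b : G ⧸ D)⁻¹ * a) := by
        refine mul_inv_eq_iff_eq_mul.1 ?_
        calc z * ((b : G ⧸ D)⁻¹ * a) * z⁻¹ = (z * (b : G ⧸ D)⁻¹ * z⁻¹) * (z * (a : G ⧸ D)⁻¹ * z⁻¹)⁻¹ := by group
          _ = (b : G ⧸ D)⁻¹ * ((b : G ⧸ D) * (z * (b : G ⧸ D)⁻¹ * z⁻¹)) *
              (((a : G ⧸ D))⁻¹ * ((a : G ⧸ D) * (z * (a : G ⧸ D)⁻¹ * z⁻¹)))⁻¹ := by group
          _ = _ := by rw [hab']; group
      by_contra hne
      exact hznot (hcent _ (mul_mem (inv_mem b.2) a.2) (fun e => hne (Subtype.ext (inv_mul_eq_one.1 e).symm)) z hcm)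
    calc ∏ w : U, ψ ((w : G ⧸ D) * z * (w : G ⧸ D)⁻¹) v = ∏ w : U, ψ ((f w : U) : G ⧸ D) (ψ z v) :=
          Finset.prod_congr rfl fun w _ => by
            rw [← MulAut.mul_apply, ← map_mul]
            congr 2
            show _ = (w : G ⧸ D) * (z * (w : G ⧸ D)⁻¹ * z⁻¹) * z
            group
      _ = ∏ w : U, ψ (w : G ⧸ D) (ψ z v) :=
          Fintype.prod_bijective f (Finite.injective_iff_bijective.1 hf) _ _ fun _ => rfl
      _ = 1 := hnorm _
  have ht1 : t ^ 1 ≠ 1 := fun e => ht2 (by rw [pow_one] at e; rw [e, one_pow])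
  have ht3 : t ^ 3 ≠ 1 := fun e => ht1 (by
    rw [pow_one]; rw [show t ^ 4 = t ^ 3 * t by rw [pow_succ], e, one_mul] at ht4; exact ht4)
  obtain ⟨w, hw⟩ : ∃ w : U, v * ψ ((w : G ⧸ D) * t ^ 1 * (w : G ⧸ D)⁻¹) v *
      ψ ((w : G ⧸ D) * t ^ 2 * (w : G ⧸ D)⁻¹) v * ψ ((w : G ⧸ D) * t ^ 3 * (w : G ⧸ D)⁻¹) v ≠ 1 := by
    by_contra hc
    push Not at hc
    have h1 : ∏ w : U, (v * ψ ((w : G ⧸ D) * t ^ 1 * (w : G ⧸ D)⁻¹) v *
      ψ ((w : G ⧸ D) * t ^ 2 * (w : G ⧸ D)⁻¹) v * ψ ((w : G ⧸ D) * t ^ 3 * (w : G ⧸ D)⁻¹) v) = 1 :=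
      Finset.prod_eq_one fun w _ => hc w
    rw [Finset.prod_mul_distrib, Finset.prod_mul_distrib, Finset.prod_mul_distrib, hz 1 ht1 (by norm_num),
      hz 2 ht2 (by norm_num), hz 3 ht3 (by norm_num), mul_one, mul_one, mul_one, Finset.prod_const,
      Finset.card_univ, ← Nat.card_eq_fintype_card] at h1
    obtain ⟨k, hk⟩ := hU
    rw [hk, pow_succ, pow_mul, pow_two, hvv, one_pow, one_mul] at h1
    exact hv1 h1
  simp only [← conj_pow] at hw
  set s := (w : G ⧸ D) * t * (w : G ⧸ D)⁻¹ with hs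
  obtain ⟨S, hS⟩ := QuotientGroup.mk'_surjective D s
  have key : ∀ X : G, QuotientGroup.mk' D X = s → X ^ 4 = 1 := by
    intro X hX
    by_contra h4
    refine h.no_eight X (orderOf_eq_prime_pow (p := 2) (n := 2) h4 ?_)
    have hmem : X ^ 4 ∈ D := (QuotientGroup.eq_one_iff _).1 (by
      rw [← QuotientGroup.mk'_apply, map_pow, hX, hs, conj_pow, ht4, mul_one, mul_inv_cancel])
    have := hsq _ hmem
    rw [← pow_add] at this
    exact this
  refine hw (Subtype.ext ?_)
  have e1 := key S hS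
  have e2 := key (v * S) (by rw [map_mul, (QuotientGroup.eq_one_iff (v : G)).2 v.2 |> (fun e => (show QuotientGroup.mk' D (v : G) = 1 from e)), one_mul, hS])
  rw [← hS, ← map_pow, ← map_pow, ← map_pow]
  simp only [Subgroup.coe_mul, hψ, Subgroup.coe_one]
  calc (v : G) * (S ^ 1 * v * (S ^ 1)⁻¹) * (S ^ 2 * v * (S ^ 2)⁻¹) * (S ^ 3 * v * (S ^ 3)⁻¹)
      = ((v : G) * S) ^ 4 * (S ^ 4)⁻¹ := by simp only [pow_succ, pow_zero, one_mul]; group
    _ = 1 := by rw [e1, e2, inv_one, mul_one]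

/-- A Suzuki group is no quotient by an elementary abelian core. -/
theorem false_of_suzuki (hsq : ∀ d ∈ D, d * d = 1) (hD1 : D ≠ ⊥) {F : Type} [Field F] [Fintype F] {m : ℕ}
    (hm : 1 ≤ m) (hF : Fintype.card F = 2 ^ (2 * m + 1)) (e : G ⧸ D ≃* Cfsg.Sz F m) : False := by
  classical
  haveI : Fact (Nat.Prime 2) := ⟨Nat.prime_two⟩
  obtain ⟨U, hcyc, hkU, hU, hNU⟩ := Lie.Suzuki.two_tori hF hm _ (Or.inl rfl)
  have hodd : Odd (Nat.card U) := by
    rw [hkU]
    simp [parity_simps]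
  set N := Subgroup.normalizer (U : Set (Cfsg.Sz F m)) with hN
  obtain ⟨P, hP⟩ := Sylow.exists_subgroup_card_pow_prime (G := N) 2 (n := 2)
    (by rw [hNU]; exact dvd_mul_right 4 _)
  have hP2 : ∀ x ∈ P, (x : Cfsg.Sz F m) ^ 4 = 1 := fun x hx => by
    have := orderOf_dvd_iff_pow_eq_one.1 (hP ▸ Subgroup.orderOf_dvd_natCard P hx)
    exact congrArg Subtype.val this
  have hcent : ∀ w ∈ U, w ≠ 1 → ∀ z, Commute z w → z ∈ U := fun w hw hw1 z hz =>
    (hU w hw hw1).le (Subgroup.mem_centralizer_singleton_iff.2 hz.eq)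
  obtain ⟨t, htN, ht4, ht2⟩ : ∃ t ∈ N, t ^ 4 = 1 ∧ t ^ 2 ≠ 1 := by
    by_contra hno
    push Not at hno
    have hinv : ∀ x ∈ P, x ≠ 1 → ∀ u ∈ U, (x : Cfsg.Sz F m) * u * (x : Cfsg.Sz F m)⁻¹ = u⁻¹ := by
      intro x hx hx1 u hu
      let γ : MulAut U := U.normalizerMonoidHom ⟨(x : Cfsg.Sz F m), x.2⟩
      have hx2 := hno x x.2 (hP2 x hx)
      have hfpf : MonoidHom.FixedPointFree γ.toMonoidHom := by
        intro y hy
        by_contra hy1
        have hxU := hcent y y.2 (fun e => hy1 (Subtype.ext e)) x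
          (mul_inv_eq_iff_eq_mul.1 (congrArg Subtype.val hy))
        have h1 : orderOf (x : Cfsg.Sz F m) ∣ 2 := orderOf_dvd_of_pow_eq_one hx2
        refine hx1 (Subtype.ext (orderOf_eq_one_iff.1 (Nat.eq_one_of_dvd_coprimes
          (Nat.coprime_two_left.2 (hodd.of_dvd_nat (Subgroup.orderOf_dvd_natCard U hxU))) h1 dvd_rfl)))
      have := congrFun (hfpf.coe_eq_inv_of_involutive fun y => by
        show γ (γ y) = y
        rw [← MulAut.mul_apply, ← map_mul, show (⟨(x : Cfsg.Sz F m), x.2⟩ : N) * ⟨x, x.2⟩ = 1 from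
          Subtype.ext (by rw [Subgroup.coe_mul, ← pow_two, hx2, Subgroup.coe_one]), map_one, MulAut.one_apply]) ⟨u, hu⟩
      exact congrArg Subtype.val this
    haveI : Nontrivial P := Finite.one_lt_card_iff_nontrivial.1 (by rw [hP]; norm_num)
    obtain ⟨⟨a, ha⟩, ha1⟩ := exists_ne (1 : P)
    have ha1' : a ≠ 1 := fun e => ha1 (Subtype.ext e)
    obtain ⟨⟨b, hb⟩, hb1, hba⟩ : ∃ b : P, b ≠ 1 ∧ b ≠ ⟨a, ha⟩ := by
      by_contra hc
      push Not at hc
      letI := Fintype.ofFinite P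
      have : (Finset.univ : Finset P) ⊆ {1, ⟨a, ha⟩} := fun b _ => by
        by_cases hb : b = 1
        · simp [hb]
        · simp [hc b hb]
      have h2 := Finset.card_le_card this
      rw [Finset.card_univ, ← Nat.card_eq_fintype_card, hP] at h2
      exact absurd (h2.trans Finset.card_le_two) (by norm_num)
    obtain ⟨u₀, hu₀, hu₁⟩ : ∃ u₀ ∈ U, u₀ ≠ 1 := by
      by_contra hc
      push Not at hc
      have hq : 1 ≤ 2 ^ (2 * m + 1) := Nat.one_le_two_pow
      rw [(Subgroup.eq_bot_iff_forall U).2 hc, Subgroup.card_bot] at hkU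
      have := Nat.two_pow_pos (2 * m)
      have := Nat.two_pow_pos m
      omega
    have hab : (b : Cfsg.Sz F m)⁻¹ * a ∈ U := by
      refine hcent u₀ hu₀ hu₁ _ ?_
      refine mul_inv_eq_iff_eq_mul.1 ?_
      rw [show (b : Cfsg.Sz F m)⁻¹ * a * u₀ * ((b : Cfsg.Sz F m)⁻¹ * a)⁻¹ =
        (b : Cfsg.Sz F m)⁻¹ * ((a : Cfsg.Sz F m) * u₀ * (a : Cfsg.Sz F m)⁻¹) * b by group, hinv a ha ha1' u₀ hu₀,
        ← hinv b hb (fun e => hb1 (Subtype.ext e)) u₀ hu₀]
      group
    have h1 : orderOf ((b : Cfsg.Sz F m)⁻¹ * a) ∣ 4 :=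
      orderOf_dvd_of_pow_eq_one (hP2 (b⁻¹ * a) (mul_mem (inv_mem hb) ha))
    exact hba (Subtype.ext (Subtype.ext (inv_mul_eq_one.1 (orderOf_eq_one_iff.1 (Nat.eq_one_of_dvd_coprimes
      ((Nat.coprime_two_left.2 (hodd.of_dvd_nat (Subgroup.orderOf_dvd_natCard U hab))).pow_left 2) h1 dvd_rfl)))))
  set U' := U.map e.symm.toMonoidHom with hU'
  refine false_of_four hC h D hD hsq hD1 U' ?_ ?_ ?_ (e.symm t) ?_ ?_ ?_
  · rwa [hU', ← Nat.card_congr (U.equivMapOfInjective e.symm.toMonoidHom e.symm.injective).toEquiv]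
  · intro e'
    rw [hU', Subgroup.map_eq_bot_iff_of_injective _ e.symm.injective] at e'
    rw [e', Subgroup.card_bot] at hkU
    have hq := Nat.one_le_two_pow (n := 2 * m + 1)
    have := Nat.two_pow_pos (2 * m)
    have := Nat.two_pow_pos m
    omega
  · rintro _ ⟨w, hw, rfl⟩ hw1 z hz
    refine ⟨e z, hcent w hw (fun e0 => hw1 (by rw [e0, map_one])) _ ?_, e.symm_apply_apply z⟩
    have := hz.map e.toMonoidHom
    simpa using this
  · rw [← map_pow, ht4, map_one]
  · rw [← map_pow]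
    exact fun e' => ht2 (e.symm.map_eq_one_iff.1 e')
  · exact Subgroup.le_normalizer_map e.symm.toMonoidHom ⟨t, htN, rfl⟩

end Eight

/-- The conclusion. -/
def Out (G : Type u) [Group G] : Prop :=
  (∃ (F : Type) (_ : Field F) (_ : Fintype F), CharP F 2 ∧ 4 ≤ Fintype.card F ∧
      (Fintype.card F + 1).primeFactorsList.length ≤ 2 ∧ (Fintype.card F - 1).primeFactorsList.length ≤ 2 ∧
      Nonempty (G ⧸ Cfsg.pCore 2 G ≃* Matrix.ProjectiveSpecialLinearGroup (Fin 2) F)) ∨
  (∃ (F : Type) (_ : Field F) (_ : Fintype F), 5 < Fintype.card F ∧ (Fintype.card F % 8 = 3 ∨ Fintype.card F % 8 = 5) ∧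
      ((Fintype.card F + 1) / 2).primeFactorsList.length ≤ 2 ∧ ((Fintype.card F - 1) / 2).primeFactorsList.length ≤ 2 ∧
      Nonempty (G ≃* Matrix.ProjectiveSpecialLinearGroup (Fin 2) F)) ∨
  (∃ (F : Type) (_ : Field F) (_ : Fintype F), (Fintype.card F = 7 ∨ Fintype.card F = 9) ∧
      Nonempty (G ≃* Matrix.ProjectiveSpecialLinearGroup (Fin 2) F)) ∨
  (∃ (F : Type) (_ : Field F) (_ : Fintype F), Fintype.card F = 4 ∧ Nonempty (G ≃* Matrix.ProjectiveSpecialLinearGroup (Fin 3) F)) ∨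
  (∃ n : ℕ, 1 ≤ n ∧ IsSimpleGroup G ∧ Nat.card G = (2 ^ (2 * n + 1)) ^ 2 * ((2 ^ (2 * n + 1)) ^ 2 + 1) * (2 ^ (2 * n + 1) - 1) ∧
      (2 ^ (2 * n + 1) - 1).primeFactorsList.length ≤ 2 ∧ (2 ^ (2 * n + 1) - 2 ^ (n + 1) + 1).primeFactorsList.length ≤ 2 ∧
      (2 ^ (2 * n + 1) + 2 ^ (n + 1) + 1).primeFactorsList.length ≤ 2)

/-- The first case of the conclusion. -/
theorem out_linear (h : Three G) {n : ℕ} (hn : 2 ≤ n) {F : Type} [Field F] [Fintype F] (hF : Fintype.card F = 2 ^ n)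
    [(Cfsg.pCore 2 G).Normal] (e : G ⧸ Cfsg.pCore 2 G ≃* Matrix.ProjectiveSpecialLinearGroup (Fin 2) F) : Out G := by
  have h4 : 4 ≤ Fintype.card F := by
    rw [hF]
    exact le_trans (by norm_num) (Nat.pow_le_pow_right two_pos hn)
  obtain ⟨h1, h2⟩ := psl_omega (h.quotient _) e h4
  rw [gcd_two_pow hF (by omega), Nat.div_one] at h1 h2
  exact Or.inl ⟨F, _, _, FPFTop.charTwo_of_card hF, h4, h1, h2, ⟨e⟩⟩

/-- The case of a nontrivial two-core. -/
theorem out_of_core (hC : CIT G) (h : Three G) (hns : ¬ Group.IsSolvable G) (hcore : Cfsg.pCore 2 G ≠ ⊥)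
    [(Cfsg.pCore 2 G).Normal] : Out G := by
  obtain ⟨hs, -, n, T, hT⟩ := hC.top hns hcore (below_all _)
  haveI := hs
  rcases hT.ident_iso with ⟨F, i1, i2, hF, ⟨e⟩⟩ | ⟨-, -, -, hiso⟩
  · exact out_linear h hT.two_le hF e
  · exfalso
    obtain ⟨F, _, _, m, hm, hF, ⟨e⟩⟩ := hiso
    obtain ⟨e'⟩ := Suzuki.lie_sz_equiv hF hm
    obtain ⟨hab, hsq, -⟩ := FPFTop.core_structure hC hns hcore
    haveI := hab
    exact false_of_suzuki hC h (Cfsg.pCore 2 G) (Solv.pCore_isPGroup 2) hsq hcore hm hF (e.trans e'.symm)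

/-- The case of a trivial two-core. -/
theorem out_of_trivial (hC : CIT G) (h : Three G) (hns : ¬ Group.IsSolvable G) (h2 : 2 ∣ Nat.card G)
    (hcore : Cfsg.pCore 2 G = ⊥) : Out G := by
  classical
  haveI : Fact (Nat.Prime 2) := ⟨Nat.prime_two⟩
  haveI : Nontrivial G := by
    by_contra hn
    rw [not_nontrivial_iff_subsingleton] at hn
    exact hns inferInstance
  obtain ⟨N, hNn, hN1, hmin⟩ := Solv.exists_minimal_normal (G := G)
  haveI := hNn
  obtain ⟨hs, hna, hN2, hcen⟩ := hC.minimal_simple hns h2 hcore hN1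
    fun M hM hM1 hle => (hmin M hM hle).resolve_left hM1
  haveI := hs
  have htop : N = ⊤ → ∃ _ : G ≃* N, IsSimpleGroup G := fun e => by
    subst e
    exact ⟨(Subgroup.topEquiv (G := G)).symm, (Subgroup.topEquiv (G := G)).symm.isSimpleGroup⟩
  rcases classify hna (hC.subgroup N) hN2 (below_all _) with hB | ⟨K, i1, i2, hK, ⟨e⟩⟩ | ⟨⟨w, -, -, -, hwo, -⟩, hlin⟩
  · obtain ⟨e₀, hsG⟩ := htop (hC.eq_top_of_bor hB)
    obtain ⟨n, T, hT⟩ := hB
    rcases hT.ident_iso with ⟨F, i1, i2, hF, ⟨e⟩⟩ | ⟨hcT, hodd, hn1, hiso⟩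
    · haveI := Solv.pCore_normal (G := G) 2
      exact out_linear h hT.two_le hF
        (((QuotientGroup.quotientMulEquivOfEq hcore).trans (QuotientGroup.quotientBot (G := G))).trans (e₀.trans e))
    · obtain ⟨k, rfl⟩ := hodd
      refine Or.inr (Or.inr (Or.inr (Or.inr ⟨k, by omega, hsG, ?_, ?_, ?_⟩)))
      · rw [Nat.card_congr e₀.toEquiv, hT.cardG, hcT]
        ring
      · obtain ⟨g, -, hg⟩ := hT.gen
        rw [← hg]
        exact (h.subgroup N).omega_le g
      · obtain ⟨F, _, _, m, hm, hF, ⟨e⟩⟩ := hiso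
        obtain ⟨e'⟩ := Suzuki.lie_sz_equiv hF hm
        let f : Cfsg.Sz F m ≃* N := e'.trans e.symm
        have hc := hT.cardG
        rw [← Nat.card_congr f.toEquiv, Suzuki.card_sz hF hm, hcT, hF] at hc
        have hmk : k = m := by
          have hpow : ∀ j, Even (2 ^ (2 * j + 1)) := fun j => (Nat.even_pow' (by omega)).2 even_two
          have ho : ∀ j, Odd (((2 ^ (2 * j + 1)) ^ 2 + 1) * (2 ^ (2 * j + 1) - 1)) := fun j =>
            (((hpow j).pow_of_ne_zero two_ne_zero).add_one).mul (Nat.Even.sub_odd Nat.one_le_two_pow (hpow j) odd_one)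
          have := pow_mul_odd_inj (a := (2 * k + 1) * 2) (b := (2 * m + 1) * 2)
            (by rw [pow_mul, pow_mul]; linarith [hc]) (ho k) (ho m)
          omega
        subst hmk
        have hk : ∀ c ∈ ({2 ^ (2 * k + 1) + 2 ^ (k + 1) + 1, 2 ^ (2 * k + 1) - 2 ^ (k + 1) + 1} : Set ℕ),
            c.primeFactorsList.length ≤ 2 := by
          intro c hc'
          obtain ⟨U, hcy, hcU, -, -⟩ := Suzuki.two_tori hF hm c hc'
          obtain ⟨g, hg⟩ := IsCyclic.exists_ofOrder_eq_natCard (α := U)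
          rw [← hcU, ← hg, ← Subgroup.orderOf_coe, ← orderOf_injective f.toMonoidHom f.injective]
          exact (h.subgroup N).omega_le _
        exact ⟨hk _ (Or.inr rfl), hk _ (Or.inl rfl)⟩
  · have hcard : Nat.card N = 20160 := (Nat.card_congr e.toEquiv).trans (Spor.PlaneAut.card_psl34 hK)
    rcases (Nat.dvd_prime Nat.prime_two).1 (CNTop.index_dvd_two hC (m := 4032) (by rw [hcard]) (by norm_num)
      (by norm_num)) with h1 | h2'
    · obtain ⟨e₀, -⟩ := htop (Subgroup.index_eq_one.1 h1)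
      exact Or.inr (Or.inr (Or.inr (Or.inl ⟨K, i1, i2, hK, ⟨e₀.trans e⟩⟩)))
    · exfalso
      haveI : Fact (Nat.Prime 7) := ⟨by norm_num⟩
      obtain ⟨R⟩ : Nonempty (Sylow 7 N) := inferInstance
      have hR := CNTop.sylow_card R (m := 2880) (by rw [hcard]) (by norm_num)
      haveI : IsCyclic (R : Subgroup N) := isCyclic_of_prime_card hR
      refine CNTop.index_ne_two hC hN2 (by norm_num) R (by rw [hR]; norm_num) ?_ h2'
      rw [hR, Nat.totient_prime (by norm_num)]
      norm_num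
  · obtain ⟨K, i1, i2, hK, ⟨e⟩⟩ := hlin
    have h4 := four_le_card hna e
    have hcN := Classical.Dickson.card_psl K
    rw [← Nat.card_congr e.toEquiv] at hcN
    rcases hK with h9 | ⟨hp, k, hk⟩
    · rw [h9] at hcN
      norm_num at hcN
      have hcard : Nat.card N = 360 := by omega
      rcases (Nat.dvd_prime Nat.prime_two).1 (CNTop.index_dvd_two hC (m := 72) (by rw [hcard]) (by norm_num)
        (by norm_num)) with h1 | h2'
      · obtain ⟨e₀, -⟩ := htop (Subgroup.index_eq_one.1 h1)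
        exact Or.inr (Or.inr (Or.inl ⟨K, i1, i2, Or.inr h9, ⟨e₀.trans e⟩⟩))
      · exfalso
        haveI : Fact (Nat.Prime 3) := ⟨Nat.prime_three⟩
        have hle : OrdFive.Le5 G := by
          intro g
          rcases Nat.even_or_odd (orderOf g) with hev | hod
          · obtain ⟨j, hj⟩ := hC.two_of_commute
              (orderOf_pow_orderOf_div (orderOf_pos g).ne' (even_iff_two_dvd.1 hev)) (Commute.self_pow g _)
            have := h.omega_le g
            rw [hj, Nat.Prime.primeFactorsList_pow Nat.prime_two, List.length_replicate] at this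
            rw [hj]
            exact (Nat.pow_le_pow_right two_pos this).trans (by norm_num)
          · have hgN := TwoQ.mem_of_sq_mem hod (by rw [pow_two]; exact Subgroup.mul_self_mem_of_index_two h2' g)
            rw [← Subgroup.orderOf_mk g hgN]
            obtain ⟨p, hp⟩ := CharP.exists K
            haveI : Fact p.Prime := ⟨CharP.char_is_prime K p⟩
            have hd := psl_order e (⟨g, hgN⟩ : N)
            have hr3 : ringChar K = 3 := by
              haveI : CharP K (ringChar K) := ringChar.charP K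
              obtain ⟨j, hpj, hj⟩ := FiniteField.card K (ringChar K)
              rw [h9] at hj
              exact (Nat.prime_dvd_prime_iff_eq hpj Nat.prime_three).1 (hpj.dvd_of_dvd_pow (n := 2)
                (by rw [show (3 : ℕ) ^ 2 = 9 by norm_num, hj]; exact dvd_pow_self _ j.ne_zero))
            rw [hr3, h9] at hd
            norm_num at hd

            rw [Subgroup.orderOf_mk]
            rcases hd with hd | hd | hd <;> have := Nat.le_of_dvd (by norm_num) hd <;> omega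
        have h6 : Nonempty (N ≃* ↥(alternatingGroup (Fin 6))) := ⟨(S0497.result (by omega : Nat.card N = 360)).some⟩
        obtain ⟨e6⟩ := h6
        have := OrdFive.eq_top_of_alt_six hle hcore N e6
        rw [this, Subgroup.index_top] at h2'
        omega
    obtain ⟨p, hpK⟩ : ∃ p, Fintype.card K = p := ⟨_, rfl⟩
    have hg2 : Nat.gcd 2 (p - 1) = 2 := Nat.gcd_eq_left (by
      obtain ⟨j, hj⟩ := hp.odd_of_ne_two (by omega)
      omega)
    -- five elements do not give an element of order four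
    have hp5 : p ≠ 5 := fun e5 => by
      haveI : Fact p.Prime := ⟨hpK ▸ hp⟩
      haveI : CharP K p := charP_of_card_eq_prime hpK
      have hd := psl_order e w
      rw [hwo, ringChar.eq K p, hpK, e5] at hd
      norm_num at hd
    have hk4 : k < 4 := by
      by_contra hk4
      have h8 : 8 ∣ 2 ^ (k - 1) := Nat.pow_dvd_pow 2 (show 3 ≤ k - 1 by omega)
      have hpk : 2 ^ k = 2 * 2 ^ (k - 1) := by rw [← pow_succ']; congr 1; omega
      obtain ⟨y, hy⟩ : ∃ y : N, orderOf y = 8 := by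
        refine psl_exists e h4 ?_
        rw [hpK, hg2]
        rcases hk with hk | hk
        · left
          rwa [show (p - 1) / 2 = 2 ^ (k - 1) by omega]
        · right
          rwa [show (p + 1) / 2 = 2 ^ (k - 1) by omega]
      exact (h.subgroup N).no_eight y hy
    have hp7 : p = 7 := by
      interval_cases k <;> rcases hk with hk | hk <;> norm_num at hk <;> (try omega)
      all_goals (rw [show Fintype.card K = 9 by omega] at hp; norm_num at hp)
    rcases (Nat.dvd_prime Nat.prime_two).1 (CNTop.index_dvd_two_psl hp (by omega) hcen e) with h1 | h2'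
    · obtain ⟨e₀, -⟩ := htop (Subgroup.index_eq_one.1 h1)
      exact Or.inr (Or.inr (Or.inl ⟨K, i1, i2, Or.inl (hpK.trans hp7), ⟨e₀.trans e⟩⟩))
    · exfalso
      haveI : Fact (Nat.Prime 3) := ⟨Nat.prime_three⟩
      rw [hpK, hp7] at hcN
      norm_num at hcN
      obtain ⟨R⟩ : Nonempty (Sylow 3 N) := inferInstance
      have hR := CNTop.sylow_card R (m := 56) (by omega) (by norm_num)
      haveI : IsCyclic (R : Subgroup N) := isCyclic_of_prime_card hR
      refine CNTop.index_ne_two hC hN2 (by norm_num) R (by rw [hR]; norm_num) ?_ h2'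
      rw [hR, Nat.totient_prime (by norm_num)]
      norm_num

/-- The case where involutions have two-group centralisers. -/
theorem out_of_cit (hC : CIT G) (h : Three G) (hns : ¬ Group.IsSolvable G) (h2 : 2 ∣ Nat.card G) : Out G := by
  haveI : Fact (Nat.Prime 2) := ⟨Nat.prime_two⟩
  haveI := Solv.pCore_normal (G := G) 2
  by_cases hcore : Cfsg.pCore 2 G = ⊥
  · exact out_of_trivial hC h hns h2 hcore
  · exact out_of_core hC h hns hcore

end Cfsg.Agent.Solv.SpecThree
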